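import Cfsg.Agent.Base

/-!
Automorphisms of a permutation group that are induced by permutations of the underlying set;
the order of the automorphism group of a finite field; automorphisms of central quotients.
-/

set_option autoImplicit false

namespace CL.AutPerm

open MulAction

variable {G X : Type*} [Group G] [MulAction G X]

/-- The permutation `σ` induces the automorphism `θ`. -/
def Compat (θ : MulAut G) (σ : Equiv.Perm X) : Prop := ∀ (g : G) (x : X), σ (g • x) = θ g • σ x

theorem Compat.one : Compat (1 : MulAut G) (1 : Equiv.Perm X) := fun _ _ => rfl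

theorem Compat.mul {θ θ' : MulAut G} {σ σ' : Equiv.Perm X} (h : Compat θ σ) (h' : Compat θ' σ') :
    Compat (θ * θ') (σ * σ') := fun g x => by
  rw [Equiv.Perm.mul_apply, h', h]; rfl

theorem Compat.inv {θ : MulAut G} {σ : Equiv.Perm X} (h : Compat θ σ) : Compat θ⁻¹ σ⁻¹ :=
  fun g x => by
  apply σ.injective
  rw [h]
  simp

theorem Compat.smul_eq_iff {θ : MulAut G} {σ : Equiv.Perm X} (h : Compat θ σ) (g : G) (x y : X) :
    θ g • σ x = σ y ↔ g • x = y := by
  rw [← h, σ.injective.eq_iff]

theorem compat_conj (g : G) : Compat (MulAut.conj g) (toPerm g : Equiv.Perm X) := fun h x => by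
  simp [mul_smul]

variable (G X) in
/-- Automorphisms induced by some permutation. -/
def permAut : Subgroup (MulAut G) where
  carrier := {θ | ∃ σ : Equiv.Perm X, Compat θ σ}
  one_mem' := ⟨1, Compat.one⟩
  mul_mem' := fun ⟨_, h⟩ ⟨_, h'⟩ => ⟨_, h.mul h'⟩
  inv_mem' := fun ⟨_, h⟩ => ⟨_, h.inv⟩

variable (G X) in
/-- Permutations inducing some automorphism. -/
def permNorm : Subgroup (Equiv.Perm X) where
  carrier := {σ | ∃ θ : MulAut G, Compat θ σ}
  one_mem' := ⟨1, Compat.one⟩
  mul_mem' := fun ⟨_, h⟩ ⟨_, h'⟩ => ⟨_, h.mul h'⟩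
  inv_mem' := fun ⟨_, h⟩ => ⟨_, h.inv⟩

theorem mem_permAut {θ : MulAut G} : θ ∈ permAut G X ↔ ∃ σ : Equiv.Perm X, Compat θ σ := Iff.rfl

theorem mem_permNorm {σ : Equiv.Perm X} : σ ∈ permNorm G X ↔ ∃ θ : MulAut G, Compat θ σ := Iff.rfl

theorem Compat.aut_unique [FaithfulSMul G X] {θ θ' : MulAut G} {σ : Equiv.Perm X}
    (h : Compat θ σ) (h' : Compat θ' σ) : θ = θ' := by
  ext g
  apply FaithfulSMul.eq_of_smul_eq_smul (α := X)
  intro x
  obtain ⟨y, rfl⟩ := σ.surjective x
  rw [← h, ← h']

theorem Compat.perm_unique (hfix : ∀ x y : X, (∀ g : G, g • x = x → g • y = y) → x = y)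
    {θ : MulAut G} {σ σ' : Equiv.Perm X} (h : Compat θ σ) (h' : Compat θ σ') : σ = σ' := by
  ext x
  apply hfix
  intro g hg
  obtain ⟨g, rfl⟩ := θ.surjective g
  rw [h.smul_eq_iff] at hg
  rw [h'.smul_eq_iff, hg]

theorem card_permAut_eq [FaithfulSMul G X]
    (hfix : ∀ x y : X, (∀ g : G, g • x = x → g • y = y) → x = y) :
    Nat.card (permAut G X) = Nat.card (permNorm G X) := by
  let f : permAut G X → permNorm G X := fun θ => ⟨θ.2.choose, θ.1, θ.2.choose_spec⟩
  have hf : ∀ θ, Compat θ.1 (f θ).1 := fun θ => θ.2.choose_spec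
  refine Nat.card_eq_of_bijective f ⟨fun θ θ' h => Subtype.ext ?_, fun σ => ?_⟩
  · exact (hf θ).aut_unique (h ▸ hf θ')
  · obtain ⟨θ, hθ⟩ := σ.2
    exact ⟨⟨θ, σ.1, hθ⟩, Subtype.ext ((hf ⟨θ, σ.1, hθ⟩).perm_unique hfix hθ)⟩

/-- A permutation normalising the image of a finite group induces an automorphism. -/
theorem mem_permNorm_of_forall [Finite G] [FaithfulSMul G X] (σ : Equiv.Perm X)
    (h : ∀ g : G, ∃ g' : G, ∀ x : X, σ (g • x) = g' • σ x) : σ ∈ permNorm G X := by
  choose θ hθ using h
  have hext : ∀ a b : G, (∀ x : X, a • σ x = b • σ x) → a = b := fun a b hab =>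
    FaithfulSMul.eq_of_smul_eq_smul (α := X) fun x => by
      obtain ⟨y, rfl⟩ := σ.surjective x
      exact hab y
  let θ' : G →* G := MonoidHom.mk' θ fun a b => hext _ _ fun x => by
    rw [← hθ, mul_smul, hθ, hθ, mul_smul]
  have hinj : Function.Injective θ' := by
    rw [injective_iff_map_eq_one]
    intro a ha
    apply FaithfulSMul.eq_of_smul_eq_smul (α := X)
    intro x
    apply σ.injective
    have : θ a = 1 := ha
    rw [hθ, this, one_smul, one_smul]
  exact ⟨MulEquiv.ofBijective θ' ⟨hinj, Finite.surjective_of_injective hinj⟩, hθ⟩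

/-- An isomorphism mapping a point stabiliser onto a point stabiliser is induced by a bijection
of the point sets. -/
theorem exists_equiv_of_stabilizer {G' X' : Type*} [Group G'] [MulAction G' X']
    [IsPretransitive G X] [IsPretransitive G' X'] (θ : G ≃* G') (x : X) (y : X')
    (h : ∀ g : G, g • x = x ↔ θ g • y = y) :
    ∃ σ : X ≃ X', σ x = y ∧ ∀ (g : G) (z : X), σ (g • z) = θ g • σ z := by
  choose t ht using fun z : X => exists_smul_eq G x z
  have key : ∀ a b : G, a • x = b • x ↔ θ a • y = θ b • y := by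
    intro a b
    rw [← inv_smul_eq_iff, smul_smul, h, map_mul, map_inv, mul_smul, inv_smul_eq_iff]
  let f : X → X' := fun z => θ (t z) • y
  have hf : ∀ (g : G), f (g • x) = θ g • y := fun g => (key _ _).1 (ht _)
  have hbij : Function.Bijective f := by
    constructor
    · intro a b hab
      rw [← ht a, ← ht b]
      exact (key _ _).2 hab
    · intro z
      obtain ⟨g, rfl⟩ := exists_smul_eq G' y z
      obtain ⟨g, rfl⟩ := θ.surjective g
      exact ⟨g • x, hf g⟩
  refine ⟨Equiv.ofBijective f hbij, ?_, fun g z => ?_⟩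
  · have := hf 1
    rwa [one_smul, map_one, one_smul] at this
  · obtain ⟨a, rfl⟩ := exists_smul_eq G x z
    change f _ = θ g • f _
    rw [smul_smul, hf, hf, map_mul, mul_smul]

theorem mem_permAut_of_stabilizer [IsPretransitive G X] (θ : MulAut G) (x y : X)
    (h : (stabilizer G x).map θ.toMonoidHom = stabilizer G y) : θ ∈ permAut G X := by
  obtain ⟨σ, -, hσ⟩ := exists_equiv_of_stabilizer θ x y fun g => by
    rw [← mem_stabilizer_iff, ← mem_stabilizer_iff, ← h, Subgroup.mem_map_equiv]
    simp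
  exact ⟨σ, hσ⟩

theorem Compat.map_stabilizer {θ : MulAut G} {σ : Equiv.Perm X} (h : Compat θ σ) (x : X) :
    (stabilizer G x).map θ.toMonoidHom = stabilizer G (σ x) := by
  ext g
  obtain ⟨g, rfl⟩ := θ.surjective g
  rw [Subgroup.mem_map_equiv, mem_stabilizer_iff, mem_stabilizer_iff, h.smul_eq_iff]
  simp

/-- In a primitive action which is not regular a point stabiliser fixes only its point. -/
theorem fix_of_two_pretransitive (h2 : IsMultiplyPretransitive G X 2)
    (h3 : ∀ x y : X, ∃ z, z ≠ x ∧ z ≠ y) (x y : X) (h : ∀ g : G, g • x = x → g • y = y) :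
    x = y := by
  by_contra hxy
  obtain ⟨z, hzx, hzy⟩ := h3 x y
  obtain ⟨g, hg1, hg2⟩ := is_two_pretransitive_iff.1 h2 hxy (Ne.symm hzx)
  exact hzy (by rw [← hg2, h g hg1])

/-- The number of automorphisms of the field with `p ^ f` elements is `f`. -/
theorem card_ringAut {F : Type*} [Field F] [Fintype F] {p f : ℕ} [hp : Fact p.Prime]
    (hF : Fintype.card F = p ^ f) : Nat.card (F ≃+* F) = f := by
  have hf : f ≠ 0 := by
    rintro rfl
    have := Fintype.one_lt_card (α := F)
    rw [pow_zero] at hF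
    omega
  have : CharP F p := by
    have h := FiniteField.cast_card_eq_zero F
    rw [hF, Nat.cast_pow] at h
    exact (CharP.charP_iff_prime_eq_zero hp.out).2 (pow_eq_zero_iff hf |>.1 h)
  let : Algebra (ZMod p) F := ZMod.algebra F p
  let e : (F ≃+* F) ≃ (F ≃ₐ[ZMod p] F) :=
    { toFun := fun φ => AlgEquiv.ofRingEquiv (f := φ) fun x => by
        have := RingHom.ext_zmod ((φ : F →+* F).comp (algebraMap (ZMod p) F))
          (algebraMap (ZMod p) F)
        exact DFunLike.congr_fun this x
      invFun := fun φ => φ.toRingEquiv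
      left_inv := fun φ => rfl
      right_inv := fun φ => rfl }
  rw [Nat.card_congr e, IsGalois.card_aut_eq_finrank]
  have := FiniteField.pow_finrank_eq_card p F
  rw [hF] at this
  exact Nat.pow_right_injective hp.out.two_le this

theorem charP_of_card {F : Type*} [Field F] [Fintype F] {p f : ℕ} [hp : Fact p.Prime]
    (hF : Fintype.card F = p ^ f) : CharP F p := by
  have hf : f ≠ 0 := by
    rintro rfl
    have := Fintype.one_lt_card (α := F)
    rw [pow_zero] at hF
    omega
  have h := FiniteField.cast_card_eq_zero F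
  rw [hF, Nat.cast_pow] at h
  exact (CharP.charP_iff_prime_eq_zero hp.out).2 (pow_eq_zero_iff hf |>.1 h)

theorem map_center_equiv {H K : Type*} [Group H] [Group K] (e : H ≃* K) :
    (Subgroup.center H).map (e : H →* K) = Subgroup.center K := by
  ext x
  rw [Subgroup.mem_map]
  constructor
  · rintro ⟨y, hy, rfl⟩
    rw [Subgroup.mem_center_iff] at hy ⊢
    intro g
    obtain ⟨g, rfl⟩ := e.surjective g
    simp only [MonoidHom.coe_coe]
    rw [← map_mul, hy, map_mul]
  · intro hx
    refine ⟨e.symm x, ?_, by simp⟩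
    rw [Subgroup.mem_center_iff] at hx ⊢
    intro g
    apply e.injective
    simp [hx]

/-- The isomorphism of central quotients induced by an isomorphism. -/
def centerQuot {H K : Type*} [Group H] [Group K] (e : H ≃* K) :
    H ⧸ Subgroup.center H ≃* K ⧸ Subgroup.center K :=
  QuotientGroup.congr _ _ e (map_center_equiv e)

theorem centerQuot_mk {H K : Type*} [Group H] [Group K] (e : H ≃* K) (x : H) :
    centerQuot e (x : H ⧸ Subgroup.center H) = (e x : K ⧸ Subgroup.center K) := rfl

/-- A `p`-subgroup pulled back along an automorphism fixes a point when `p` does not divide the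
number of points. -/
theorem exists_le_map_stabilizer {G' : Type*} [Group G'] [Finite X] {p : ℕ} [Fact p.Prime]
    (hX : ¬ p ∣ Nat.card X) (θ : G ≃* G') (Q : Subgroup G') (hQ : IsPGroup p Q) :
    ∃ y : X, Q ≤ (stabilizer G y).map θ.toMonoidHom := by
  have h1 : IsPGroup p (Q.comap θ.toMonoidHom) := hQ.comap_of_injective _ θ.injective
  obtain ⟨y, hy⟩ := h1.nonempty_fixed_point_of_prime_not_dvd_card X hX
  refine ⟨y, fun g hg => ⟨θ.symm g, ?_, by simp⟩⟩
  exact hy ⟨θ.symm g, by simpa [Subgroup.mem_comap] using hg⟩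

theorem isCoatom_map_equiv {G' : Type*} [Group G'] (θ : G ≃* G') {H : Subgroup G}
    (h : IsCoatom H) : IsCoatom (H.map θ.toMonoidHom) :=
  (OrderIso.isCoatom_iff θ.mapSubgroup H).2 h

end CL.AutPerm
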