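import Cfsg.Agent.Base

/-!
The fundamental theorem of projective geometry (after Faure): a map between projective spaces
that preserves and reflects collinearity is induced by a semilinear map, in dimension `≥ 3`.
-/

set_option autoImplicit false

namespace CL.GLn

open Submodule

section Ind

variable {K V : Type*} [Field K] [AddCommGroup V] [Module K V]

/-- Linear independence of two vectors, in coordinates. -/
def Ind2 (K : Type*) {V : Type*} [Field K] [AddCommGroup V] [Module K V] (u v : V) : Prop :=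
  ∀ x y : K, x • u + y • v = 0 → x = 0 ∧ y = 0

/-- Linear independence of three vectors, in coordinates. -/
def Ind3 (K : Type*) {V : Type*} [Field K] [AddCommGroup V] [Module K V] (u v w : V) : Prop :=
  ∀ x y z : K, x • u + y • v + z • w = 0 → x = 0 ∧ y = 0 ∧ z = 0

theorem ind2_iff {u v : V} : Ind2 K u v ↔ u ≠ 0 ∧ v ∉ K ∙ u := by
  constructor
  · intro h
    refine ⟨?_, fun hv => ?_⟩
    · rintro rfl
      exact one_ne_zero (h 1 0 (by simp)).1
    · obtain ⟨c, rfl⟩ := mem_span_singleton.1 hv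
      exact one_ne_zero (h (-c) 1 (by simp)).2
  · rintro ⟨hu, hv⟩ x y hxy
    have hy : y = 0 := by
      by_contra hy
      apply hv
      rw [mem_span_singleton]
      refine ⟨-(y⁻¹ * x), ?_⟩
      have : y • v = -(x • u) := eq_neg_of_add_eq_zero_right hxy
      rw [← inv_smul_smul₀ hy v, this]
      module
    subst hy
    simpa [hu] using hxy

theorem ind3_iff {u v w : V} : Ind3 K u v w ↔ Ind2 K u v ∧ w ∉ span K {u, v} := by
  constructor
  · intro h
    refine ⟨fun x y hxy => ?_, fun hw => ?_⟩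
    · have := h x y 0 (by simpa using hxy)
      exact ⟨this.1, this.2.1⟩
    · obtain ⟨a, b, rfl⟩ := mem_span_pair.1 hw
      exact one_ne_zero (h (-a) (-b) 1 (by module)).2.2
  · rintro ⟨huv, hw⟩ x y z hxyz
    have hz : z = 0 := by
      by_contra hz
      apply hw
      rw [mem_span_pair]
      refine ⟨-(z⁻¹ * x), -(z⁻¹ * y), ?_⟩
      have : z • w = -(x • u + y • v) := eq_neg_of_add_eq_zero_right hxyz
      rw [← inv_smul_smul₀ hz w, this]
      module
    subst hz
    have := huv x y (by simpa using hxyz)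
    exact ⟨this.1, this.2, rfl⟩

theorem Ind2.symm {u v : V} (h : Ind2 K u v) : Ind2 K v u := fun x y hxy =>
  (h y x (by rw [add_comm]; exact hxy)).symm

theorem Ind3.swap12 {u v w : V} (h : Ind3 K u v w) : Ind3 K v u w := fun x y z hxy => by
  have := h y x z (by rw [← hxy]; module)
  tauto

theorem Ind3.swap23 {u v w : V} (h : Ind3 K u v w) : Ind3 K u w v := fun x y z hxy => by
  have := h x z y (by rw [← hxy]; module)
  tauto

theorem Ind3.rotate {u v w : V} (h : Ind3 K u v w) : Ind3 K w u v := h.swap23.swap12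

theorem Ind3.ind2 {u v w : V} (h : Ind3 K u v w) : Ind2 K u v := (ind3_iff.1 h).1

theorem Ind2.ne_zero_left {u v : V} (h : Ind2 K u v) : u ≠ 0 := (ind2_iff.1 h).1

theorem Ind2.ne_zero_right {u v : V} (h : Ind2 K u v) : v ≠ 0 := h.symm.ne_zero_left

theorem Ind2.add_left {u v : V} (h : Ind2 K u v) (c : K) : Ind2 K (u + c • v) v :=
  fun x y hxy => by
  have := h x (x * c + y) (by rw [← hxy]; module)
  obtain ⟨rfl, h2⟩ := this
  exact ⟨rfl, by simpa using h2⟩

theorem exists_ind3_of_finrank (h : 3 ≤ Module.finrank K V) : ∃ u v w : V, Ind3 K u v w := by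
  have : FiniteDimensional K V := Module.finite_of_finrank_pos (by omega)
  obtain ⟨u, hu⟩ : ∃ u : V, u ≠ 0 := by
    have : Nontrivial V := Module.nontrivial_of_finrank_pos (R := K) (by omega)
    exact exists_ne 0
  have key : ∀ U : Submodule K V, Module.finrank K U < 3 → ∃ x, x ∉ U := by
    intro U hU
    by_contra! hx
    have : U = ⊤ := eq_top_iff.2 fun x _ => hx x
    rw [this, finrank_top] at hU
    omega
  obtain ⟨v, hv⟩ := key (K ∙ u) (by rw [finrank_span_singleton hu]; omega)
  obtain ⟨w, hw⟩ := key (span K {u, v}) (by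
    classical
    have := finrank_span_finset_le_card (R := K) ({u, v} : Finset V)
    have h2 : ({u, v} : Finset V).card ≤ 2 := Finset.card_le_two
    rw [Set.finrank, Finset.coe_pair] at this
    omega)
  exact ⟨u, v, w, ind3_iff.2 ⟨ind2_iff.2 ⟨hu, hv⟩, hw⟩⟩

/-- Three independent vectors do not all lie in the span of two vectors. -/
theorem Ind3.exists_notMem {e₁ e₂ e₃ : V} (h : Ind3 K e₁ e₂ e₃) (u v : V) :
    e₁ ∉ span K {u, v} ∨ e₂ ∉ span K {u, v} ∨ e₃ ∉ span K {u, v} := by
  by_contra! hc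
  obtain ⟨h1, h2, h3⟩ := hc
  obtain ⟨a1, b1, rfl⟩ := mem_span_pair.1 h1
  obtain ⟨a2, b2, rfl⟩ := mem_span_pair.1 h2
  obtain ⟨a3, b3, rfl⟩ := mem_span_pair.1 h3
  have h0 := h (a2 * b3 - a3 * b2) (a3 * b1 - a1 * b3) (a1 * b2 - a2 * b1) (by module)
  have h12 := h.ind2
  have ha := h12 a2 (-a1) (by
    have : a2 • (a1 • u + b1 • v) + -a1 • (a2 • u + b2 • v) = -(a1 * b2 - a2 * b1) • v := by module
    rw [this, h0.2.2]; simp)
  have hb := h12 b2 (-b1) (by
    have : b2 • (a1 • u + b1 • v) + -b1 • (a2 • u + b2 • v) = (a1 * b2 - a2 * b1) • u := by module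
    rw [this, h0.2.2]; simp)
  apply h12.ne_zero_right
  rw [ha.1, hb.1]; simp

end Ind

variable {K L V W : Type*} [Field K] [Field L] [AddCommGroup V] [Module K V]
  [AddCommGroup W] [Module L W]

/-- An additive map which maps lines through the origin into lines and reflects proportionality is
semilinear, in dimension at least two. -/
theorem exists_ringHom_of_additive (f : V →+ W) (h1 : ∀ (c : K) (v : V), f (c • v) ∈ L ∙ f v)
    (h2 : ∀ u v : V, f v ∈ L ∙ f u → v ∈ K ∙ u) (h3 : ∃ u v : V, Ind2 K u v) :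
    ∃ φ : K →+* L, ∀ (c : K) (v : V), f (c • v) = φ c • f v := by
  obtain ⟨e, e', hee'⟩ := h3
  have hne : ∀ v : V, v ≠ 0 → f v ≠ 0 := by
    intro v hv h
    have := h2 0 v (by rw [h]; exact zero_mem _)
    exact hv (by simpa using this)
  have hind : ∀ u v : V, Ind2 K u v → Ind2 L (f u) (f v) := fun u v h =>
    ind2_iff.2 ⟨hne u h.ne_zero_left, fun hh => (ind2_iff.1 h).2 (h2 u v hh)⟩
  have step : ∀ (u v : V) (c : K) (α : L), Ind2 K u v → f (c • u) = α • f u →
      f (c • v) = α • f v := by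
    intro u v c α huv hu
    obtain ⟨β, hβ⟩ := mem_span_singleton.1 (h1 c v)
    obtain ⟨γ, hγ⟩ := mem_span_singleton.1 (h1 c (u + v))
    rw [smul_add c, map_add f (c • u), hu, ← hβ, map_add] at hγ
    have := hind u v huv (γ - α) (γ - β) (by
      have : (γ - α) • f u + (γ - β) • f v = γ • (f u + f v) - (α • f u + β • f v) := by module
      rw [this, hγ, sub_self])
    rw [← hβ, ← sub_eq_zero.1 this.2, sub_eq_zero.1 this.1]
  choose φ hφ using fun c => mem_span_singleton.1 (h1 c e)
  have hall : ∀ (c : K) (v : V), f (c • v) = φ c • f v := by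
    intro c v
    by_cases hv0 : v = 0
    · simp [hv0]
    by_cases hv : v ∈ K ∙ e
    · have h4 : Ind2 K e' v := by
        obtain ⟨d, rfl⟩ := mem_span_singleton.1 hv
        have hd : d ≠ 0 := by rintro rfl; exact hv0 (by simp)
        intro x y hxy
        have := hee' (y * d) x (by rw [← hxy]; module)
        exact ⟨this.2, by simpa [hd] using this.1⟩
      exact step e' v c _ h4 (step e e' c _ hee' (hφ c).symm)
    · exact step e v c _ (ind2_iff.2 ⟨hee'.ne_zero_left, hv⟩) (hφ c).symm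
  have hcan : ∀ a b : L, a • f e = b • f e → a = b := fun a b h =>
    smul_left_injective L (hne e hee'.ne_zero_left) h
  refine ⟨{ toFun := φ
            map_one' := hcan _ _ (by rw [← hall, one_smul, one_smul])
            map_mul' := fun a b => hcan _ _ (by rw [← hall, mul_smul, hall, hall, mul_smul])
            map_zero' := hcan _ _ (by rw [← hall, zero_smul, map_zero, zero_smul])
            map_add' := fun a b => hcan _ _ (by
              rw [← hall, add_smul, map_add, hall, hall, add_smul]) }, hall⟩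

section Core

variable (s : V → W)

/-- `b` is a non-zero multiple of `s v`. -/
def FRep (L : Type*) [Field L] [Module L W] (v : V) (b : W) : Prop := ∃ c : L, c ≠ 0 ∧ b = c • s v

variable {s}

theorem FRep.span_pair {u v : V} {a b : W} (ha : FRep s L u a) (hb : FRep s L v b) :
    span L {s u, s v} = span L {a, b} := by
  obtain ⟨c, hc, rfl⟩ := ha
  obtain ⟨d, hd, rfl⟩ := hb
  ext x
  simp only [mem_span_pair]
  constructor
  · rintro ⟨p, q, rfl⟩
    exact ⟨p * c⁻¹, q * d⁻¹, by simp [smul_smul, hc, hd]⟩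
  · rintro ⟨p, q, rfl⟩
    exact ⟨p * c, q * d, by simp [smul_smul]⟩

variable (hs0 : s 0 = 0) (hA : ∀ u v w : V, w ∈ span K {u, v} ↔ s w ∈ span L {s u, s v})
include hs0 hA

theorem ftpg_ne_zero {v : V} (hv : v ≠ 0) : s v ≠ 0 := by
  intro h
  have := (hA 0 0 v).2 (by rw [h]; exact zero_mem _)
  exact hv (by simpa using this)

omit hs0 in
theorem ftpg_span_singleton (u v : V) : v ∈ K ∙ u ↔ s v ∈ L ∙ s u := by
  simpa using hA u u v

theorem ftpg_ind2 {u v : V} {a b : W} (h : Ind2 K u v) (ha : FRep s L u a) (hb : FRep s L v b) :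
    Ind2 L a b := by
  have h1 : Ind2 L (s u) (s v) := ind2_iff.2 ⟨ftpg_ne_zero hs0 hA h.ne_zero_left,
    fun hh => (ind2_iff.1 h).2 ((ftpg_span_singleton hA u v).2 hh)⟩
  obtain ⟨c, hc, rfl⟩ := ha
  obtain ⟨d, hd, rfl⟩ := hb
  intro x y hxy
  have := h1 (x * c) (y * d) (by rw [← hxy]; module)
  simpa [hc, hd] using this

theorem ftpg_ind3 {u v w : V} {a b c : W} (h : Ind3 K u v w) (ha : FRep s L u a)
    (hb : FRep s L v b) (hc : FRep s L w c) : Ind3 L a b c := by
  refine ind3_iff.2 ⟨ftpg_ind2 hs0 hA h.ind2 ha hb, fun hh => (ind3_iff.1 h).2 ?_⟩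
  rw [hA, ha.span_pair hb]
  obtain ⟨d, hd, rfl⟩ := hc
  have := smul_mem _ d⁻¹ hh
  rwa [inv_smul_smul₀ hd] at this

theorem ftpg_exists {u v : V} {a : W} (h : Ind2 K u v) (ha : FRep s L u a) :
    ∃ b, FRep s L v b ∧ FRep s L (u + v) (a + b) := by
  obtain ⟨c, hc, rfl⟩ := ha
  obtain ⟨α, β, hαβ⟩ := mem_span_pair.1 ((hA u v (u + v)).1 (mem_span_pair.2 ⟨1, 1, by simp⟩))
  have hα : α ≠ 0 := by
    rintro rfl
    have : u + v ∈ K ∙ v := (ftpg_span_singleton hA _ _).2
      (mem_span_singleton.2 ⟨β, by simpa using hαβ⟩)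
    obtain ⟨d, hd⟩ := mem_span_singleton.1 this
    exact one_ne_zero (h 1 (1 - d) (by rw [sub_smul, hd]; module)).1
  have hβ : β ≠ 0 := by
    rintro rfl
    have : u + v ∈ K ∙ u := (ftpg_span_singleton hA _ _).2
      (mem_span_singleton.2 ⟨α, by simpa using hαβ⟩)
    obtain ⟨d, hd⟩ := mem_span_singleton.1 this
    exact one_ne_zero (h (1 - d) 1 (by rw [sub_smul, hd]; module)).2
  refine ⟨(c * α⁻¹ * β) • s v, ⟨_, by simp [hc, hα, hβ], rfl⟩, c * α⁻¹, by simp [hc, hα], ?_⟩
  rw [← hαβ, smul_add, smul_smul, smul_smul, mul_assoc c α⁻¹ α, inv_mul_cancel₀ hα, mul_one]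

theorem ftpg_unique {u v : V} {a b b' : W} (h : Ind2 K u v) (ha : FRep s L u a)
    (hb : FRep s L v b) (hab : FRep s L (u + v) (a + b))
    (hb' : FRep s L v b') (hab' : FRep s L (u + v) (a + b')) : b = b' := by
  have hind := ftpg_ind2 hs0 hA h ha hb
  obtain ⟨c, hc, hcb⟩ := hb
  obtain ⟨c', hc', hcb'⟩ := hb'
  obtain ⟨d, hd, hdb⟩ := hab
  obtain ⟨d', hd', hdb'⟩ := hab'
  have e1 : b' = (c' * c⁻¹) • b := by rw [hcb, hcb', smul_smul]; simp [hc]
  have e2 : a + b' = (d' * d⁻¹) • (a + b) := by rw [hdb, hdb', smul_smul]; simp [hd]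
  have := hind (1 - d' * d⁻¹) (c' * c⁻¹ - d' * d⁻¹) (by
    have : (1 - d' * d⁻¹) • a + (c' * c⁻¹ - d' * d⁻¹) • b =
      (a + (c' * c⁻¹) • b) - (d' * d⁻¹) • (a + b) := by module
    rw [this, ← e1, e2, sub_self])
  rw [e1, sub_eq_zero.1 this.2, ← sub_eq_zero.1 this.1, one_smul]

theorem ftpg_key {u v w : V} {a b c : W} (h : Ind3 K u v w) (ha : FRep s L u a)
    (hb : FRep s L v b) (hc : FRep s L w c) (hab : FRep s L (u + v) (a + b))
    (hac : FRep s L (u + w) (a + c)) :
    FRep s L (u + (v + w)) (a + (b + c)) ∧ FRep s L (v + w) (b + c) := by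
  have hind := ftpg_ind3 hs0 hA h ha hb hc
  have h1 : FRep s L (u + (v + w)) (a + (b + c)) := by
    have e1 := (hA (u + v) w (u + (v + w))).1 (mem_span_pair.2 ⟨1, 1, by module⟩)
    have e2 := (hA (u + w) v (u + (v + w))).1 (mem_span_pair.2 ⟨1, 1, by module⟩)
    rw [hab.span_pair hc] at e1
    rw [hac.span_pair hb] at e2
    obtain ⟨x, y, hxy⟩ := mem_span_pair.1 e1
    obtain ⟨z, t, hzt⟩ := mem_span_pair.1 e2
    obtain ⟨r1, r2, r3⟩ := hind (x - z) (x - t) (y - z) (by
      have : (x - z) • a + (x - t) • b + (y - z) • c =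
        (x • (a + b) + y • c) - (z • (a + c) + t • b) := by module
      rw [this, hxy, hzt, sub_self])
    have hyx : y = x := by rw [sub_eq_zero.1 r3, sub_eq_zero.1 r1]
    have hne : u + (v + w) ≠ 0 := fun h0 =>
      one_ne_zero (h 1 1 1 (by rw [← h0]; module)).1
    have hx : x ≠ 0 := by
      rintro rfl
      apply ftpg_ne_zero hs0 hA hne
      rw [← hxy, hyx]; simp
    refine ⟨x⁻¹, inv_ne_zero hx, ?_⟩
    rw [← hxy, hyx, ← smul_add, inv_smul_smul₀ hx, add_assoc]
  refine ⟨h1, ?_⟩
  have e1 := (hA v w (v + w)).1 (mem_span_pair.2 ⟨1, 1, by module⟩)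
  have e2 := (hA (u + (v + w)) u (v + w)).1 (mem_span_pair.2 ⟨1, -1, by module⟩)
  rw [hb.span_pair hc] at e1
  rw [h1.span_pair ha] at e2
  obtain ⟨x, y, hxy⟩ := mem_span_pair.1 e1
  obtain ⟨z, t, hzt⟩ := mem_span_pair.1 e2
  obtain ⟨r1, r2, r3⟩ := hind (-z - t) (x - z) (y - z) (by
    have : (-z - t) • a + (x - z) • b + (y - z) • c =
      (x • b + y • c) - (z • (a + (b + c)) + t • a) := by module
    rw [this, hxy, hzt, sub_self])
  have hyx : y = x := by rw [sub_eq_zero.1 r3, sub_eq_zero.1 r2]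
  have hne : v + w ≠ 0 := fun h0 =>
    one_ne_zero (h 0 1 1 (by rw [← h0]; module)).2.1
  have hx : x ≠ 0 := by
    rintro rfl
    apply ftpg_ne_zero hs0 hA hne
    rw [← hxy, hyx]; simp
  refine ⟨x⁻¹, inv_ne_zero hx, ?_⟩
  rw [← hxy, hyx, ← smul_add, inv_smul_smul₀ hx]

/-- Vector form of the fundamental theorem of projective geometry. -/
theorem ftpg_vec (h3 : ∃ u v w : V, Ind3 K u v w) :
    ∃ (φ : K →+* L) (f : V →ₛₗ[φ] W), ∀ v, ∃ c : L, c ≠ 0 ∧ f v = c • s v := by
  classical
  obtain ⟨e₁, e₂, e₃, he⟩ := h3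
  have ha₁ : FRep s L e₁ (s e₁) := ⟨1, one_ne_zero, (one_smul _ _).symm⟩
  set a₁ := s e₁ with ha₁def
  obtain ⟨a₂, ha₂, h12⟩ := ftpg_exists hs0 hA he.ind2 ha₁
  obtain ⟨a₃, ha₃, h13⟩ := ftpg_exists hs0 hA he.swap23.ind2 ha₁
  have h23 := (ftpg_key hs0 hA he ha₁ ha₂ ha₃ h12 h13).2
  have hcomm : ∀ {u v : V} {a b : W}, FRep s L (u + v) (a + b) → FRep s L (v + u) (b + a) :=
    fun {u v a b} h => by rwa [add_comm u, add_comm a] at h
  -- transport of compatibility from one basis vector to another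
  have trans : ∀ {x y z v : V} {a b c d : W}, Ind3 K x y z → FRep s L x a → FRep s L y b →
      FRep s L z c → FRep s L (x + y) (a + b) → FRep s L (x + z) (a + c) →
      FRep s L (z + y) (c + b) → FRep s L v d → Ind2 K x v → FRep s L (x + v) (a + d) →
      Ind2 K y v → FRep s L (y + v) (b + d) := by
    intro x y z v a b c d hxyz ha hb hc hab hac hcb hd hxv hxd hyv
    by_cases hv : v ∈ span K {x, y}
    · obtain ⟨p, q, rfl⟩ := mem_span_pair.1 hv
      have hq : q ≠ 0 := by
        rintro rfl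
        exact one_ne_zero (hxv (-p) 1 (by module)).2
      have hp : p ≠ 0 := by
        rintro rfl
        exact one_ne_zero (hyv (-q) 1 (by module)).2
      have i1 : Ind3 K x z (p • x + q • y) := fun r s t h => by
        obtain ⟨r1, r2, r3⟩ := hxyz (r + t * p) (t * q) s (by rw [← h]; module)
        have ht : t = 0 := by simpa [hq] using r2
        subst ht
        exact ⟨by simpa using r1, r3, rfl⟩
      have i2 : Ind3 K z y (p • x + q • y) := fun r s t h => by
        obtain ⟨r1, r2, r3⟩ := hxyz (t * p) (s + t * q) r (by rw [← h]; module)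
        have ht : t = 0 := by simpa [hp] using r1
        subst ht
        exact ⟨r3, by simpa using r2, rfl⟩
      have k1 := (ftpg_key hs0 hA i1 ha hc hd hac hxd).2
      exact (ftpg_key hs0 hA i2 hc hb hd hcb k1).2
    · exact (ftpg_key hs0 hA (ind3_iff.2 ⟨hxyz.ind2, hv⟩) ha hb hd hab hxd).2
  have hgood : ∀ v : V, v ≠ 0 → ∃ b, FRep s L v b ∧ (Ind2 K e₁ v → FRep s L (e₁ + v) (a₁ + b)) ∧
      (Ind2 K e₂ v → FRep s L (e₂ + v) (a₂ + b)) ∧ (Ind2 K e₃ v → FRep s L (e₃ + v) (a₃ + b)) := by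
    intro v hv
    by_cases h1 : Ind2 K e₁ v
    · obtain ⟨b, hb, hb1⟩ := ftpg_exists hs0 hA h1 ha₁
      exact ⟨b, hb, fun _ => hb1,
        trans he ha₁ ha₂ ha₃ h12 h13 (hcomm h23) hb h1 hb1,
        trans he.swap23 ha₁ ha₃ ha₂ h13 h12 h23 hb h1 hb1⟩
    · have h2 : Ind2 K e₂ v := by
        have hv1 : v ∈ K ∙ e₁ := by
          by_contra hh
          exact h1 (ind2_iff.2 ⟨he.ind2.ne_zero_left, hh⟩)
        obtain ⟨d, rfl⟩ := mem_span_singleton.1 hv1
        have hd : d ≠ 0 := by rintro rfl; exact hv (by simp)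
        intro x y hxy
        have := he.ind2 (y * d) x (by rw [← hxy]; module)
        exact ⟨this.2, by simpa [hd] using this.1⟩
      obtain ⟨b, hb, hb2⟩ := ftpg_exists hs0 hA h2 ha₂
      exact ⟨b, hb, fun h => absurd h h1, fun _ => hb2,
        trans he.swap12.swap23 ha₂ ha₃ ha₁ h23 (hcomm h12) h13 hb h2 hb2⟩
  choose! g hg hg1 hg2 hg3 using hgood
  let f0 : V → W := fun v => if v = 0 then 0 else g v
  have hf0 : ∀ v, v ≠ 0 → f0 v = g v := fun v hv => if_neg hv
  have hrep : ∀ v, FRep s L v (f0 v) := by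
    intro v
    by_cases hv : v = 0
    · subst hv
      exact ⟨1, one_ne_zero, by simp [f0, hs0]⟩
    · rw [hf0 v hv]; exact hg v hv
  have hadd2 : ∀ u v, Ind2 K u v → f0 (u + v) = f0 u + f0 v := by
    intro u v huv
    have huv0 : u + v ≠ 0 := fun h0 => one_ne_zero (huv 1 1 (by simpa using h0)).1
    have main : ∀ (e : V) (a : W), FRep s L e a → e ∉ span K {u, v} →
        (∀ x, x ≠ 0 → Ind2 K e x → FRep s L (e + x) (a + g x)) → f0 (u + v) = f0 u + f0 v := by
      intro e a ha hne hge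
      have i3 : Ind3 K e u v := (ind3_iff.2 ⟨huv, hne⟩).rotate
      have i2 : Ind2 K e (u + v) := fun x y h => by
        obtain ⟨r1, r2, -⟩ := i3 x y y (by rw [← h]; module)
        exact ⟨r1, r2⟩
      rw [hf0 _ huv0, hf0 _ huv.ne_zero_left, hf0 _ huv.ne_zero_right]
      obtain ⟨k1, k2⟩ := ftpg_key hs0 hA i3 ha (hg u huv.ne_zero_left) (hg v huv.ne_zero_right)
        (hge u huv.ne_zero_left i3.ind2) (hge v huv.ne_zero_right i3.swap23.ind2)
      exact ftpg_unique hs0 hA i2 ha (hg _ huv0) (hge _ huv0 i2) k2 k1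
    rcases he.exists_notMem u v with h | h | h
    · exact main e₁ a₁ ha₁ h hg1
    · exact main e₂ a₂ ha₂ h hg2
    · exact main e₃ a₃ ha₃ h hg3
  have hf00 : f0 0 = 0 := if_pos rfl
  have hadd : ∀ u v, f0 (u + v) = f0 u + f0 v := by
    intro u v
    by_cases hu : u = 0
    · simp [hu, hf00]
    by_cases hv : v = 0
    · simp [hv, hf00]
    by_cases huv : Ind2 K u v
    · exact hadd2 u v huv
    have hv1 : v ∈ K ∙ u := by
      by_contra hh
      exact huv (ind2_iff.2 ⟨hu, hh⟩)
    obtain ⟨d, rfl⟩ := mem_span_singleton.1 hv1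
    have hd : d ≠ 0 := by rintro rfl; exact hv (by simp)
    obtain ⟨w, hw⟩ : ∃ w : V, w ∉ K ∙ u := by
      rcases he.exists_notMem u u with h | h | h <;> exact ⟨_, by simpa using h⟩
    have iwu : Ind2 K w u := (ind2_iff.2 ⟨hu, hw⟩).symm
    have iw : ∀ c : K, c ≠ 0 → ∀ t : K, Ind2 K (w + t • u) (c • u) := fun c hc t x y h => by
      have := iwu.add_left t x (y * c) (by rw [← h]; module)
      exact ⟨this.1, by simpa [hc] using this.2⟩
    have e1 : f0 (w + u + d • u) = f0 w + f0 u + f0 (d • u) := by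
      rw [hadd2 _ _ (by simpa using iw d hd 1), hadd2 _ _ iwu]
    have e2 : f0 (w + (u + d • u)) = f0 w + f0 (u + d • u) := by
      by_cases h0 : 1 + d = 0
      · have : u + d • u = 0 := by rw [← zero_smul K u, ← h0]; module
        rw [this, add_zero, hf00, add_zero]
      · have : u + d • u = (1 + d) • u := by module
        rw [this]
        exact hadd2 _ _ (by simpa using iw _ h0 0)
    rw [add_assoc, e2, add_assoc] at e1
    exact add_left_cancel e1
  let f1 : V →+ W := AddMonoidHom.mk' f0 hadd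
  have hspan : ∀ u v : V, f1 v ∈ L ∙ f1 u ↔ v ∈ K ∙ u := by
    intro u v
    have := (hrep u).span_pair (hrep u)
    simp only [Set.mem_singleton_iff, Set.insert_eq_of_mem] at this
    rw [ftpg_span_singleton hA u v, this]
    obtain ⟨c, hc, hcv⟩ := hrep v
    change f0 v ∈ L ∙ f0 u ↔ _
    rw [hcv, smul_mem_iff _ hc]
  obtain ⟨φ, hφ⟩ := exists_ringHom_of_additive (K := K) (L := L) f1
    (fun c v => (hspan _ _).2 (smul_mem _ _ (mem_span_singleton_self v)))
    (fun u v => (hspan u v).1) ⟨e₁, e₂, he.ind2⟩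
  exact ⟨φ, { toFun := f1, map_add' := map_add f1, map_smul' := hφ }, hrep⟩

end Core

open scoped LinearAlgebra.Projectivization in
/-- **Fundamental theorem of projective geometry.** A map between projective spaces which
preserves and reflects collinearity is induced by an injective semilinear map, if the source has
three independent vectors. -/
theorem ftpg (σ : ℙ K V → ℙ L W)
    (hσ : ∀ x y z : ℙ K V, z.submodule ≤ x.submodule ⊔ y.submodule ↔
      (σ z).submodule ≤ (σ x).submodule ⊔ (σ y).submodule)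
    (h3 : ∃ u v w : V, Ind3 K u v w) :
    ∃ (φ : K →+* L) (f : V →ₛₗ[φ] W) (hf : Function.Injective f),
      ∀ x, σ x = Projectivization.map f hf x := by
  classical
  let s : V → W := fun v => if h : v = 0 then 0 else (σ (Projectivization.mk K v h)).rep
  have hs0 : s 0 = 0 := dif_pos rfl
  have hs : ∀ v (h : v ≠ 0), s v = (σ (Projectivization.mk K v h)).rep := fun v h => dif_neg h
  have hA' : ∀ u v w : V, u ≠ 0 → v ≠ 0 → w ≠ 0 →
      (w ∈ span K {u, v} ↔ s w ∈ span L {s u, s v}) := by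
    intro u v w hu hv hw
    have := hσ (.mk K u hu) (.mk K v hv) (.mk K w hw)
    simp only [Projectivization.submodule_mk] at this
    rw [Projectivization.submodule_eq, Projectivization.submodule_eq,
      Projectivization.submodule_eq, ← hs, ← hs, ← hs, span_singleton_le_iff_mem,
      span_singleton_le_iff_mem, ← span_insert, ← span_insert] at this
    exact this
  have hA : ∀ u v w : V, w ∈ span K {u, v} ↔ s w ∈ span L {s u, s v} := by
    intro u v w
    by_cases hw : w = 0
    · simp [hw, hs0]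
    by_cases hu : u = 0
    · by_cases hv : v = 0
      · have : s w ≠ 0 := by rw [hs w hw]; exact Projectivization.rep_nonzero _
        simp [hu, hv, hs0, hw, this]
      · have := hA' v v w hv hv hw
        simpa [hu, hs0] using this
    · by_cases hv : v = 0
      · have := hA' u u w hu hu hw
        rw [Set.pair_comm u, Set.pair_comm (s u)]
        simpa [hv, hs0] using this
      · exact hA' u v w hu hv hw
  obtain ⟨φ, f, hf⟩ := ftpg_vec hs0 hA h3
  have hinj : Function.Injective f := by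
    rw [injective_iff_map_eq_zero]
    intro v hv
    by_contra h0
    obtain ⟨c, hc, hcv⟩ := hf v
    rw [hv] at hcv
    exact smul_ne_zero hc (ftpg_ne_zero hs0 hA h0) hcv.symm
  refine ⟨φ, f, hinj, fun x => ?_⟩
  induction x using Projectivization.ind with | _ v hv =>
  rw [Projectivization.map_mk, ← Projectivization.mk_rep (σ _), eq_comm,
    Projectivization.mk_eq_mk_iff']
  obtain ⟨c, -, hcv⟩ := hf v
  exact ⟨c, by rw [hcv, hs v hv]⟩

end CL.GLn
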