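import Cfsg.Agent.Base

/-!
Transvections `x ↦ x + (w ⬝ x) v` as elements of `SL` and `GL`, subspace stabilisers in `GL`,
and the subspace `tvS H` of centres `v` all of whose transvections lie in a subgroup `H`.
-/

set_option autoImplicit false

namespace CL.GLn

open Matrix

variable {ι : Type} [Fintype ι] [DecidableEq ι] {F : Type*} [Field F]

theorem det_one_add_vecMulVec (v w : ι → F) : (1 + vecMulVec v w).det = 1 + w ⬝ᵥ v := by
  rw [vecMulVec_eq Unit, det_one_add_replicateCol_mul_replicateRow]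

omit [DecidableEq ι] in
theorem vecMulVec_mulVec' (v w x : ι → F) : vecMulVec v w *ᵥ x = (w ⬝ᵥ x) • v := by
  rw [vecMulVec_mulVec]; ext i; simp [mul_comm]

theorem one_add_vecMulVec_mulVec (v w x : ι → F) :
    (1 + vecMulVec v w) *ᵥ x = x + (w ⬝ᵥ x) • v := by
  rw [add_mulVec, one_mulVec, vecMulVec_mulVec']

omit [DecidableEq ι] in
theorem vecMulVec_mul_vecMulVec' (a b c d : ι → F) :
    vecMulVec a b * vecMulVec c d = (b ⬝ᵥ c) • vecMulVec a d := by
  rw [vecMulVec_mul_vecMulVec, vecMulVec_smul]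

/-- A linear functional vanishing on `W` and with value `1` at `v ∉ W`, as a vector. -/
theorem exists_dot_of_notMem (W : Submodule F (ι → F)) {v : ι → F} (hv : v ∉ W) :
    ∃ w : ι → F, (∀ x ∈ W, w ⬝ᵥ x = 0) ∧ w ⬝ᵥ v = 1 := by
  obtain ⟨f, hf, hW⟩ := W.exists_dual_map_eq_bot_of_notMem hv inferInstance
  obtain ⟨w, rfl⟩ := (dotProductEquiv F ι).surjective f
  have hf' : w ⬝ᵥ v ≠ 0 := hf
  refine ⟨(w ⬝ᵥ v)⁻¹ • w, fun x hx => ?_, ?_⟩
  · have : dotProductEquiv F ι w x ∈ W.map (dotProductEquiv F ι w) := Submodule.mem_map_of_mem hx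
    rw [hW, Submodule.mem_bot] at this
    have h2 : w ⬝ᵥ x = 0 := this
    rw [smul_dotProduct, h2, smul_zero]
  · rw [smul_dotProduct, smul_eq_mul, inv_mul_cancel₀ hf']

theorem exists_dot_eq_one {v : ι → F} (hv : v ≠ 0) : ∃ w : ι → F, w ⬝ᵥ v = 1 := by
  obtain ⟨w, -, hw⟩ := exists_dot_of_notMem (⊥ : Submodule F (ι → F)) (v := v) (by simpa using hv)
  exact ⟨w, hw⟩

/-- If `v` is not a multiple of `u` there is `w` with `w ⬝ u = 0`, `w ⬝ v = 1`. -/
theorem exists_dot_zero_one {u v : ι → F} (h : v ∉ F ∙ u) :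
    ∃ w : ι → F, w ⬝ᵥ u = 0 ∧ w ⬝ᵥ v = 1 := by
  obtain ⟨w, h1, h2⟩ := exists_dot_of_notMem (F ∙ u) h
  exact ⟨w, h1 u (Submodule.mem_span_singleton_self u), h2⟩

theorem eq_zero_of_forall_dot {v : ι → F} (h : ∀ w : ι → F, w ⬝ᵥ v = 0) : v = 0 := by
  by_contra hv
  obtain ⟨w, hw⟩ := exists_dot_eq_one hv
  rw [h w] at hw
  exact zero_ne_one hw

omit [DecidableEq ι] in
/-- A matrix of rank one is an outer product. -/
theorem exists_eq_vecMulVec_of_rank_eq_one {M : Matrix ι ι F} (h : M.rank = 1) :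
    ∃ a b : ι → F, a ≠ 0 ∧ b ≠ 0 ∧ M = vecMulVec a b := by
  classical
  rw [rank_eq_finrank_span_cols, finrank_eq_one_iff'] at h
  obtain ⟨⟨a, ha⟩, ha0, hspan⟩ := h
  have : ∀ j, ∃ c : F, c • a = M.col j := by
    intro j
    obtain ⟨c, hc⟩ := hspan ⟨M.col j, Submodule.subset_span ⟨j, rfl⟩⟩
    exact ⟨c, congrArg Subtype.val hc⟩
  choose b hb using this
  have hM : M = vecMulVec a b := by
    ext i j
    have := congrFun (hb j) i
    simp only [Pi.smul_apply, smul_eq_mul, col_apply] at this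
    rw [vecMulVec_apply, ← this, mul_comm]
  have ha0' : a ≠ 0 := fun h => ha0 (Subtype.ext h)
  refine ⟨a, b, ha0', ?_, hM⟩
  rintro rfl
  apply ha0'
  have hM0 : M = 0 := by rw [hM]; simp
  have : Submodule.span F (Set.range M.col) = ⊥ := by
    rw [Submodule.span_eq_bot]
    rintro _ ⟨j, rfl⟩
    rw [hM0]; rfl
  rw [this] at ha
  simpa using ha

/-- The transvection `x ↦ x + (w ⬝ x) v` (for `w ⬝ v = 0`) as an element of `SL`. -/
def tv (v w : ι → F) (h : w ⬝ᵥ v = 0) : SpecialLinearGroup ι F :=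
  ⟨1 + vecMulVec v w, by rw [det_one_add_vecMulVec, h, add_zero]⟩

theorem tv_coe (v w : ι → F) (h : w ⬝ᵥ v = 0) :
    ((tv v w h : SpecialLinearGroup ι F) : Matrix ι ι F) = 1 + vecMulVec v w := rfl

theorem tv_mulVec (v w : ι → F) (h : w ⬝ᵥ v = 0) (x : ι → F) :
    ((tv v w h : SpecialLinearGroup ι F) : Matrix ι ι F) *ᵥ x = x + (w ⬝ᵥ x) • v :=
  one_add_vecMulVec_mulVec v w x

theorem tv_zero_left (w : ι → F) (h : w ⬝ᵥ 0 = 0) : tv (0 : ι → F) w h = 1 :=
  Subtype.ext (by simp [tv_coe])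

theorem tv_zero_right (v : ι → F) (h : (0 : ι → F) ⬝ᵥ v = 0) : tv v 0 h = 1 :=
  Subtype.ext (by simp [tv_coe])

theorem tv_mul_tv_left (v w w' : ι → F) (h : w ⬝ᵥ v = 0) (h' : w' ⬝ᵥ v = 0) :
    tv v w h * tv v w' h' = tv v (w + w') (by rw [add_dotProduct, h, h', add_zero]) := by
  apply Subtype.ext
  simp only [Matrix.SpecialLinearGroup.coe_mul, tv_coe, mul_add, add_mul, mul_one, one_mul,
    vecMulVec_mul_vecMulVec', h, zero_smul, vecMulVec_add, add_zero]
  abel

theorem tv_mul_tv_right (v v' w : ι → F) (h : w ⬝ᵥ v = 0) (h' : w ⬝ᵥ v' = 0) :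
    tv v w h * tv v' w h' = tv (v + v') w (by rw [dotProduct_add, h, h', add_zero]) := by
  apply Subtype.ext
  simp only [Matrix.SpecialLinearGroup.coe_mul, tv_coe, mul_add, add_mul, mul_one, one_mul,
    vecMulVec_mul_vecMulVec', h', zero_smul, add_vecMulVec, add_zero]
  abel

theorem tv_smul (c : F) (v w : ι → F) (h : w ⬝ᵥ (c • v) = 0) (h' : (c • w) ⬝ᵥ v = 0) :
    tv (c • v) w h = tv v (c • w) h' :=
  Subtype.ext (by simp [tv_coe, smul_vecMulVec, vecMulVec_smul])

theorem tv_pow (v w : ι → F) (h : w ⬝ᵥ v = 0) (k : ℕ) :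
    tv v w h ^ k = tv v ((k : F) • w) (by rw [smul_dotProduct, h, smul_zero]) := by
  induction k with
  | zero => apply Subtype.ext; simp [tv_coe]
  | succ k ih =>
    rw [pow_succ, ih, tv_mul_tv_left]
    congr 1
    push_cast
    rw [add_smul, one_smul]

theorem tv_pow_char (p : ℕ) [CharP F p] (v w : ι → F) (h : w ⬝ᵥ v = 0) : tv v w h ^ p = 1 := by
  rw [tv_pow]
  apply Subtype.ext
  simp [tv_coe]

theorem tv_eq_one_iff (v w : ι → F) (h : w ⬝ᵥ v = 0) : tv v w h = 1 ↔ v = 0 ∨ w = 0 := by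
  rw [← vecMulVec_eq_zero]
  constructor
  · intro h1
    have := congrArg Subtype.val h1
    simpa [tv_coe] using this
  · intro h1
    exact Subtype.ext (by simp [tv_coe, h1])

theorem transvection_eq_tv {i j : ι} (hij : i ≠ j) (c : F) :
    SpecialLinearGroup.transvection hij c =
      tv (Pi.single i c) (Pi.single j 1) (by simp [hij.symm]) := by
  apply Subtype.ext
  rw [SpecialLinearGroup.transvection_coe, tv_coe]
  congr 1
  ext a b
  simp only [single_apply, vecMulVec_apply, Pi.single_apply]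
  by_cases ha : i = a <;> by_cases hb : j = b <;> simp [ha, hb, eq_comm]

/-- `diag2n` is a product of elementary transvections. -/
theorem diag2n_decompose {i j : ι} (hij : i ≠ j) (a : F) (ha : a ≠ 0) :
    SpecialLinearGroup.diag2n hij a ha = SpecialLinearGroup.transvection hij a *
      SpecialLinearGroup.transvection hij.symm (- a⁻¹) *
      SpecialLinearGroup.transvection hij a *
      SpecialLinearGroup.transvection hij (-1) *
      SpecialLinearGroup.transvection hij.symm 1 *
      SpecialLinearGroup.transvection hij (-1) := by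
  apply Subtype.ext
  have hd : (SpecialLinearGroup.diag2n hij a ha).1 =
      1 + single i i (a - 1) + single j j (a⁻¹ - 1) := by
    rw [SpecialLinearGroup.diag2n_coe]
    ext r s
    simp only [diagonal_apply, Matrix.add_apply, one_apply, single_apply]
    by_cases hri : r = i <;> by_cases hrj : r = j <;> by_cases hrs : r = s <;>
      simp_all [eq_comm]
  rw [hd]
  simp only [Matrix.SpecialLinearGroup.coe_mul, SpecialLinearGroup.transvection_coe, mul_add, add_mul,
    mul_one, one_mul, single_mul_single_same, single_mul_single_of_ne _ _ _ _ hij,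
    single_mul_single_of_ne _ _ _ _ hij.symm, add_zero, zero_mul]
  ext r s
  simp only [Matrix.add_apply, one_apply, single_apply]
  by_cases h1 : i = r <;> by_cases h2 : j = r <;> by_cases h3 : i = s <;> by_cases h4 : j = s <;>
    simp_all <;> field_simp <;> ring

/-- `SL` is generated by elementary transvections. -/
theorem SL_transvection_induction (P : SpecialLinearGroup ι F → Prop) (h1 : P 1)
    (htransvec : ∀ (i j : ι) (h : i ≠ j) c, P (SpecialLinearGroup.transvection h c))
    (hmul : ∀ A B, P A → P B → P (A * B)) (A : SpecialLinearGroup ι F) : P A := by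
  rcases subsingleton_or_nontrivial ι with hι | hι
  · have : A = 1 := Subsingleton.elim _ _
    rw [this]; exact h1
  refine SpecialLinearGroup.diagonal_transvection_induction' P _ (fun i j hij c hc ↦ ?_)
    htransvec hmul
  rw [diag2n_decompose]
  refine hmul _ _ (hmul _ _ (hmul _ _ (hmul _ _ (hmul _ _ ?_ ?_) ?_) ?_) ?_) ?_
  all_goals exact htransvec _ _ _ _

/-- A subgroup of `SL` containing all transvections is everything. -/
theorem eq_top_of_forall_tv_mem (H : Subgroup (SpecialLinearGroup ι F))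
    (h : ∀ v w hvw, tv v w hvw ∈ H) : H = ⊤ := by
  rw [eq_top_iff]
  intro A _
  refine SL_transvection_induction (· ∈ H) H.one_mem (fun i j hij c => ?_)
    (fun A B => H.mul_mem) A
  rw [transvection_eq_tv]
  exact h _ _ _

/-- `SL` is transitive on non-zero vectors in dimension at least two. -/
theorem exists_SL_mulVec_eq [Nontrivial ι] {u v : ι → F} (hu : u ≠ 0) (hv : v ≠ 0) :
    ∃ g : SpecialLinearGroup ι F, (g : Matrix ι ι F) *ᵥ u = v := by
  have key : ∀ {u v : ι → F}, u ≠ 0 → v ∉ F ∙ u →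
      ∃ g : SpecialLinearGroup ι F, (g : Matrix ι ι F) *ᵥ u = v := by
    intro u v hu h
    have h1 : u ∉ F ∙ (v - u) := by
      intro h1
      obtain ⟨c, hc⟩ := Submodule.mem_span_singleton.1 h1
      have hc0 : c ≠ 0 := by rintro rfl; exact hu (by simpa using hc.symm)
      apply h
      rw [Submodule.mem_span_singleton]
      refine ⟨c⁻¹ + 1, ?_⟩
      have : v - u = c⁻¹ • u := by
        conv_rhs => rw [← hc, smul_smul, inv_mul_cancel₀ hc0, one_smul]
      rw [add_smul, ← this, one_smul, sub_add_cancel]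
    obtain ⟨w, hw0, hw1⟩ := exists_dot_zero_one h1
    exact ⟨tv (v - u) w hw0, by rw [tv_mulVec, hw1, one_smul, add_sub_cancel]⟩
  by_cases h : v ∈ F ∙ u
  · obtain ⟨z, hz⟩ : ∃ z : ι → F, z ∉ F ∙ u := by
      by_contra! hz
      have h1 : (F ∙ u) = ⊤ := eq_top_iff.2 fun z _ => hz z
      have h2 := finrank_span_singleton (K := F) hu
      rw [h1, finrank_top, Module.finrank_fintype_fun_eq_card] at h2
      have := Fintype.one_lt_card (α := ι)
      omega
    have hz0 : z ≠ 0 := by rintro rfl; exact hz (Submodule.zero_mem _)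
    have hz' : v ∉ F ∙ z := by
      intro h1
      obtain ⟨c, rfl⟩ := Submodule.mem_span_singleton.1 h1
      have hc : c ≠ 0 := by rintro rfl; exact hv (by simp)
      apply hz
      have := Submodule.smul_mem _ c⁻¹ h
      rwa [smul_smul, inv_mul_cancel₀ hc, one_smul] at this
    obtain ⟨g1, h1⟩ := key hu hz
    obtain ⟨g2, h2⟩ := key hz0 hz'
    exact ⟨g2 * g1, by rw [Matrix.SpecialLinearGroup.coe_mul, ← mulVec_mulVec, h1, h2]⟩
  · exact key hu h

end CL.GLn
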