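import Cfsg.Agent.Base
import Cfsg.Agent.GLn.Basic

/-!
Subspace stabilisers in `GL`, and the subspace `tvS H` of centres `v` all of whose
transvections lie in a subgroup `H` of `GL`.
-/

set_option autoImplicit false

namespace CL.GLn

open Matrix

variable {ι : Type} [Fintype ι] [DecidableEq ι] {F : Type*} [Field F]

theorem gl_mulVec_inv_mulVec (g : GL ι F) (v : ι → F) :
    (g : Matrix ι ι F) *ᵥ ((g⁻¹ : GL ι F) : Matrix ι ι F) *ᵥ v = v := by
  rw [mulVec_mulVec, ← Units.val_mul, mul_inv_cancel, Units.val_one, one_mulVec]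

theorem gl_inv_mulVec_mulVec (g : GL ι F) (v : ι → F) :
    ((g⁻¹ : GL ι F) : Matrix ι ι F) *ᵥ (g : Matrix ι ι F) *ᵥ v = v := by
  rw [mulVec_mulVec, ← Units.val_mul, inv_mul_cancel, Units.val_one, one_mulVec]

theorem gl_mulVec_injective (g : GL ι F) :
    Function.Injective fun v : ι → F => (g : Matrix ι ι F) *ᵥ v := by
  intro u v h
  have h' : (g : Matrix ι ι F) *ᵥ u = (g : Matrix ι ι F) *ᵥ v := h
  rw [← gl_inv_mulVec_mulVec g u, h', gl_inv_mulVec_mulVec]

theorem gl_mulVec_ne_zero (g : GL ι F) {v : ι → F} (hv : v ≠ 0) : (g : Matrix ι ι F) *ᵥ v ≠ 0 := by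
  intro h
  apply hv
  rw [← gl_inv_mulVec_mulVec g v, h, mulVec_zero]

theorem gl_mul_mulVec (g h : GL ι F) (v : ι → F) :
    ((g * h : GL ι F) : Matrix ι ι F) *ᵥ v = (g : Matrix ι ι F) *ᵥ (h : Matrix ι ι F) *ᵥ v := by
  rw [Units.val_mul, mulVec_mulVec]

/-- The element of `GL` given by a linear equivalence. -/
noncomputable def ofEquiv (e : (ι → F) ≃ₗ[F] (ι → F)) : GL ι F :=
  GeneralLinearGroup.toLin.symm (LinearMap.GeneralLinearGroup.ofLinearEquiv e)

theorem ofEquiv_mulVec (e : (ι → F) ≃ₗ[F] (ι → F)) (v : ι → F) :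
    (ofEquiv e : Matrix ι ι F) *ᵥ v = e v := by
  have h := GeneralLinearGroup.toLin_apply (ofEquiv e) v
  rw [ofEquiv, MulEquiv.apply_symm_apply] at h
  exact h.symm

/-- The linear equivalence given by an element of `GL`. -/
noncomputable def toEquiv (g : GL ι F) : (ι → F) ≃ₗ[F] (ι → F) :=
  (GeneralLinearGroup.toLin g).toLinearEquiv

theorem toEquiv_apply (g : GL ι F) (v : ι → F) : toEquiv g v = (g : Matrix ι ι F) *ᵥ v := rfl

/-- The transvection `tv v w` in `GL`. -/
def gtv (v w : ι → F) (h : w ⬝ᵥ v = 0) : GL ι F := SpecialLinearGroup.toGL (tv v w h)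

theorem gtv_coe (v w : ι → F) (h : w ⬝ᵥ v = 0) :
    (gtv v w h : Matrix ι ι F) = 1 + vecMulVec v w := rfl

theorem gtv_mulVec (v w : ι → F) (h : w ⬝ᵥ v = 0) (x : ι → F) :
    (gtv v w h : Matrix ι ι F) *ᵥ x = x + (w ⬝ᵥ x) • v :=
  one_add_vecMulVec_mulVec v w x

theorem vecMul_inv_dot_mulVec (g : GL ι F) (v w : ι → F) :
    (w ᵥ* ((g⁻¹ : GL ι F) : Matrix ι ι F)) ⬝ᵥ ((g : Matrix ι ι F) *ᵥ v) = w ⬝ᵥ v := by
  rw [← dotProduct_mulVec, gl_inv_mulVec_mulVec]

theorem conj_gtv (g : GL ι F) (v w : ι → F) (h : w ⬝ᵥ v = 0) :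
    g * gtv v w h * g⁻¹ = gtv ((g : Matrix ι ι F) *ᵥ v) (w ᵥ* ((g⁻¹ : GL ι F) : Matrix ι ι F))
      (by rw [vecMul_inv_dot_mulVec, h]) := by
  apply Units.ext
  simp only [Units.val_mul, gtv_coe, mul_add, add_mul, mul_one, mul_vecMulVec, vecMulVec_mul]
  rw [← Units.val_mul, mul_inv_cancel, Units.val_one]

/-- The stabiliser of a subspace in `GL`. -/
def stab (W : Submodule F (ι → F)) : Subgroup (GL ι F) :=
  Cfsg.stabilizing (Cfsg.glToMat ι F) (W : Set (ι → F))

theorem mem_stab_iff' {W : Submodule F (ι → F)} {g : GL ι F} :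
    g ∈ stab W ↔ ∀ v, v ∈ W ↔ (g : Matrix ι ι F) *ᵥ v ∈ W := Iff.rfl

theorem mem_stab_iff_map {W : Submodule F (ι → F)} {g : GL ι F} :
    g ∈ stab W ↔ W.map (toEquiv g).toLinearMap = W := by
  rw [mem_stab_iff']
  constructor
  · intro h
    ext v
    rw [Submodule.mem_map_equiv, h]
    change (toEquiv g) _ ∈ _ ↔ _
    rw [LinearEquiv.apply_symm_apply]
  · intro h v
    conv_rhs => rw [← h, Submodule.mem_map_equiv, ← toEquiv_apply, LinearEquiv.symm_apply_apply]

theorem mem_stab_iff {W : Submodule F (ι → F)} {g : GL ι F} :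
    g ∈ stab W ↔ ∀ v ∈ W, (g : Matrix ι ι F) *ᵥ v ∈ W := by
  refine ⟨fun h v hv => (h v).1 hv, fun h => ?_⟩
  rw [mem_stab_iff_map]
  apply Submodule.eq_of_le_of_finrank_eq
  · rintro _ ⟨v, hv, rfl⟩
    exact h v hv
  · exact LinearEquiv.finrank_map_eq _ _

/-- Conjugating a stabiliser. -/
theorem map_conj_stab (W : Submodule F (ι → F)) (g : GL ι F) :
    (stab W).map (MulAut.conj g).toMonoidHom = stab (W.map (toEquiv g).toLinearMap) := by
  ext h
  rw [Subgroup.mem_map_equiv, mem_stab_iff, mem_stab_iff]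
  simp only [MulAut.conj_symm_apply, gl_mul_mulVec]
  constructor
  · rintro H _ ⟨v, hv, rfl⟩
    refine ⟨_, H v hv, ?_⟩
    change (g : Matrix ι ι F) *ᵥ _ = _
    rw [gl_mulVec_inv_mulVec]; rfl
  · intro H v hv
    obtain ⟨u, hu, hu'⟩ := H _ ⟨v, hv, rfl⟩
    change (g : Matrix ι ι F) *ᵥ u = (h : Matrix ι ι F) *ᵥ ((g : Matrix ι ι F) *ᵥ v) at hu'
    rw [← hu', gl_inv_mulVec_mulVec]
    exact hu

/-- The vectors `v` such that all transvections with centre `v` lie in `H` form a subspace. -/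
def tvS (H : Subgroup (GL ι F)) : Submodule F (ι → F) where
  carrier := {v | ∀ w (h : w ⬝ᵥ v = 0), gtv v w h ∈ H}
  zero_mem' := fun w h => by
    rw [gtv, tv_zero_left, map_one]; exact H.one_mem
  smul_mem' := fun c v hv w h => by
    rw [gtv, tv_smul c v w h (by rwa [dotProduct_smul, ← smul_dotProduct] at h)]
    exact hv _ _
  add_mem' := fun {u v} hu hv w h => by
    have hsmul : ∀ (c : F) (v : ι → F), (∀ w (h : w ⬝ᵥ v = 0), gtv v w h ∈ H) →
        ∀ w (h : w ⬝ᵥ (c • v) = 0), gtv (c • v) w h ∈ H := fun c v hv w h => by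
      rw [gtv, tv_smul c v w h (by rwa [dotProduct_smul, ← smul_dotProduct] at h)]
      exact hv _ _
    by_cases huv : u ∈ F ∙ v
    · obtain ⟨c, rfl⟩ := Submodule.mem_span_singleton.1 huv
      have : c • v + v = (c + 1) • v := by rw [add_smul, one_smul]
      revert h
      rw [this]
      exact hsmul _ _ hv w
    · obtain ⟨z, hz0, hz1⟩ := exists_dot_zero_one huv
      set g := gtv v z hz0 with hg
      have hgH : g ∈ H := hv _ _
      have h1 : (g : Matrix ι ι F) *ᵥ u = u + v := by rw [hg, gtv_mulVec, hz1, one_smul]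
      have h2 : (w ᵥ* (g : Matrix ι ι F)) ⬝ᵥ u = 0 := by rw [← dotProduct_mulVec, h1, h]
      have h3 := H.mul_mem (H.mul_mem hgH (hu _ h2)) (H.inv_mem hgH)
      rw [conj_gtv] at h3
      convert h3 using 2
      · exact h1.symm
      · rw [vecMul_vecMul, ← Units.val_mul, mul_inv_cancel, Units.val_one, vecMul_one]

theorem mem_tvS {H : Subgroup (GL ι F)} {v : ι → F} :
    v ∈ tvS H ↔ ∀ w (h : w ⬝ᵥ v = 0), gtv v w h ∈ H := Iff.rfl

theorem tvS_mono {H K : Subgroup (GL ι F)} (h : H ≤ K) : tvS H ≤ tvS K :=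
  fun _ hv w hw => h (hv w hw)

/-- `tvS H` is invariant under the normaliser of `H`. -/
theorem mulVec_mem_tvS_of_normalizer {H : Subgroup (GL ι F)} {g : GL ι F}
    (hg : ∀ h ∈ H, g * h * g⁻¹ ∈ H) {v : ι → F} (hv : v ∈ tvS H) :
    (g : Matrix ι ι F) *ᵥ v ∈ tvS H := by
  intro w h
  have h2 : (w ᵥ* (g : Matrix ι ι F)) ⬝ᵥ v = 0 := by rw [← dotProduct_mulVec, h]
  have h3 := hg _ (hv _ h2)
  rw [conj_gtv] at h3
  convert h3 using 2
  rw [vecMul_vecMul, ← Units.val_mul, mul_inv_cancel, Units.val_one, vecMul_one]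

theorem le_stab_tvS (H : Subgroup (GL ι F)) : H ≤ stab (tvS H) := fun _ hg =>
  mem_stab_iff.2 fun _ hv =>
    mulVec_mem_tvS_of_normalizer (fun _ hh => H.mul_mem (H.mul_mem hg hh) (H.inv_mem hg)) hv

theorem toGL_mem_of_tvS_eq_top {H : Subgroup (GL ι F)} (h : tvS H = ⊤)
    (g : SpecialLinearGroup ι F) : SpecialLinearGroup.toGL g ∈ H := by
  have : H.comap SpecialLinearGroup.toGL = ⊤ := by
    apply eq_top_of_forall_tv_mem
    intro v w hvw
    have hv : v ∈ tvS H := h ▸ Submodule.mem_top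
    exact hv w hvw
  have hg : g ∈ H.comap SpecialLinearGroup.toGL := this ▸ Subgroup.mem_top g
  exact hg

theorem gtv_mem_stab_of_mem {W : Submodule F (ι → F)} {v : ι → F} (hv : v ∈ W) (w : ι → F)
    (h : w ⬝ᵥ v = 0) : gtv v w h ∈ stab W :=
  mem_stab_iff.2 fun x hx => by
    rw [gtv_mulVec]; exact W.add_mem hx (W.smul_mem _ hv)

theorem gtv_mem_stab_of_forall {W : Submodule F (ι → F)} (v w : ι → F)
    (h : w ⬝ᵥ v = 0) (hw : ∀ x ∈ W, w ⬝ᵥ x = 0) : gtv v w h ∈ stab W :=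
  mem_stab_iff.2 fun x hx => by
    rw [gtv_mulVec, hw x hx, zero_smul, add_zero]; exact hx

theorem le_tvS_stab (W : Submodule F (ι → F)) : W ≤ tvS (stab W) :=
  fun _ hv w h => gtv_mem_stab_of_mem hv w h

theorem tvS_stab {W : Submodule F (ι → F)} (hW : W ≠ ⊥) : tvS (stab W) = W := by
  refine le_antisymm (fun v hv => ?_) (le_tvS_stab W)
  by_contra hvW
  obtain ⟨u, huW, hu0⟩ := (Submodule.ne_bot_iff W).1 hW
  have huv : u ∉ F ∙ v := by
    intro h
    obtain ⟨c, rfl⟩ := Submodule.mem_span_singleton.1 h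
    have hc : c ≠ 0 := by rintro rfl; exact hu0 (by simp)
    apply hvW
    have := W.smul_mem c⁻¹ huW
    rwa [smul_smul, inv_mul_cancel₀ hc, one_smul] at this
  obtain ⟨z, hz0, hz1⟩ := exists_dot_zero_one huv
  have := mem_stab_iff.1 (hv z hz0) u huW
  rw [gtv_mulVec, hz1, one_smul] at this
  exact hvW ((W.add_mem_iff_right huW).1 this)

theorem stab_injective {W W' : Submodule F (ι → F)} (hW : W ≠ ⊥) (hW' : W' ≠ ⊥)
    (h : stab W = stab W') : W = W' := by
  rw [← tvS_stab hW, h, tvS_stab hW']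

/-- A subspace invariant under all transvections fixing `W` pointwise is inside `W` or is
everything. -/
theorem eq_top_of_forall_gtv {W U : Submodule F (ι → F)} (hWU : W ≤ U) (hne : W ≠ U)
    (h : ∀ v w (hvw : w ⬝ᵥ v = 0), (∀ x ∈ W, w ⬝ᵥ x = 0) → gtv v w hvw ∈ stab U) : U = ⊤ := by
  obtain ⟨u, huU, huW⟩ := SetLike.exists_of_lt (lt_of_le_of_ne hWU hne)
  rw [eq_top_iff]
  intro z _
  by_contra hz
  have h1 : u ∉ W ⊔ F ∙ z := by
    intro h1
    obtain ⟨x, hx, y, hy, rfl⟩ := Submodule.mem_sup.1 h1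
    obtain ⟨c, rfl⟩ := Submodule.mem_span_singleton.1 hy
    have hc : c ≠ 0 := by rintro rfl; exact huW (by simpa using hx)
    apply hz
    have h2 : c • z ∈ U := (U.add_mem_iff_right (hWU hx)).1 huU
    have := U.smul_mem c⁻¹ h2
    rwa [smul_smul, inv_mul_cancel₀ hc, one_smul] at this
  obtain ⟨w, hw0, hw1⟩ := exists_dot_of_notMem _ h1
  have hwz : w ⬝ᵥ z = 0 := hw0 z (Submodule.mem_sup_right (Submodule.mem_span_singleton_self z))
  have := mem_stab_iff.1 (h z w hwz fun x hx => hw0 x (Submodule.mem_sup_left hx)) u huU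
  rw [gtv_mulVec, hw1, one_smul] at this
  exact hz ((U.add_mem_iff_right huU).1 this)

/-- Every non-zero determinant is attained by a dilatation with centre a given non-zero vector. -/
theorem exists_det_eq_mem_stab {W : Submodule F (ι → F)} (hW : W ≠ ⊥) (d : Fˣ) :
    ∃ g ∈ stab W, GeneralLinearGroup.det g = d := by
  obtain ⟨u, huW, hu0⟩ := (Submodule.ne_bot_iff W).1 hW
  obtain ⟨w, hw⟩ := exists_dot_eq_one hu0
  have hdet : (1 + vecMulVec u (((d : F) - 1) • w)).det = d := by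
    rw [det_one_add_vecMulVec, smul_dotProduct, hw]; simp
  refine ⟨GeneralLinearGroup.mkOfDetNeZero _ (by rw [hdet]; exact d.ne_zero), ?_, ?_⟩
  · refine mem_stab_iff.2 fun x hx => ?_
    change (1 + vecMulVec u (((d : F) - 1) • w)) *ᵥ x ∈ W
    rw [one_add_vecMulVec_mulVec]
    exact W.add_mem hx (W.smul_mem _ huW)
  · exact Units.ext hdet

theorem stab_ne_top {W : Submodule F (ι → F)} (hW : W ≠ ⊥) (hW' : W ≠ ⊤) : stab W ≠ ⊤ := by
  intro h
  apply hW'
  rw [← tvS_stab hW, h, eq_top_iff]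
  exact fun v _ w hw => Subgroup.mem_top _

/-- The stabiliser of a proper non-zero subspace is a maximal subgroup of `GL`. -/
theorem isCoatom_stab {W : Submodule F (ι → F)} (hW : W ≠ ⊥) (hW' : W ≠ ⊤) :
    IsCoatom (stab W) := by
  refine ⟨stab_ne_top hW hW', fun H hH => ?_⟩
  have h1 : W ≤ tvS H := (le_tvS_stab W).trans (tvS_mono hH.le)
  have h2 : W ≠ tvS H := by
    intro h
    have := le_stab_tvS H
    rw [← h] at this
    exact hH.not_ge this
  have h3 : tvS H = ⊤ := eq_top_of_forall_gtv h1 h2 fun v w hvw hw =>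
    le_stab_tvS H (hH.le (gtv_mem_stab_of_forall v w hvw hw))
  rw [eq_top_iff]
  intro g _
  obtain ⟨d, hd, hdet⟩ := exists_det_eq_mem_stab hW (GeneralLinearGroup.det g)
  have h4 : ((g * d⁻¹ : GL ι F) : Matrix ι ι F).det = 1 := by
    have : GeneralLinearGroup.det (g * d⁻¹) = 1 := by rw [map_mul, map_inv, hdet, mul_inv_cancel]
    exact congrArg Units.val this
  have h5 := toGL_mem_of_tvS_eq_top h3 ⟨_, h4⟩
  have h6 : SpecialLinearGroup.toGL (⟨_, h4⟩ : SpecialLinearGroup ι F) = g * d⁻¹ := Units.ext rfl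
  rw [h6] at h5
  have := H.mul_mem h5 (hH.le hd)
  rwa [inv_mul_cancel_right] at this

/-- The span of the first `k` coordinate vectors. -/
def coordSub (F : Type*) [Field F] (n k : ℕ) : Submodule F (Fin n → F) where
  carrier := {v | ∀ i : Fin n, k ≤ (i : ℕ) → v i = 0}
  zero_mem' := fun _ _ => rfl
  add_mem' := fun {u v} hu hv i hi => by simp [hu i hi, hv i hi]
  smul_mem' := fun c v hv i hi => by simp [hv i hi]

theorem mem_coordSub {n k : ℕ} {v : Fin n → F} :
    v ∈ coordSub F n k ↔ ∀ i : Fin n, k ≤ (i : ℕ) → v i = 0 := Iff.rfl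

theorem stab_coordSub (n k : ℕ) : stab (coordSub F n k) =
    Cfsg.stabilizing (Cfsg.glToMat (Fin n) F) {v : Fin n → F | ∀ i : Fin n, k ≤ (i : ℕ) → v i = 0} :=
  rfl

theorem finrank_coordSub {n k : ℕ} (hk : k ≤ n) : Module.finrank F (coordSub F n k) = k := by
  let e : coordSub F n k ≃ₗ[F] (Fin k → F) :=
    { toFun := fun v i => v.1 (Fin.castLE hk i)
      map_add' := fun _ _ => rfl
      map_smul' := fun _ _ => rfl
      invFun := fun u => ⟨fun i => if h : (i : ℕ) < k then u ⟨i, h⟩ else 0, fun i hi => by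
        simp [not_lt.2 hi]⟩
      left_inv := fun v => by
        ext i
        by_cases h : (i : ℕ) < k
        · simp [h]
        · simp [h, v.2 i (not_lt.1 h)]
      right_inv := fun u => by
        ext i
        simp }
  rw [e.finrank_eq, Module.finrank_fintype_fun_eq_card, Fintype.card_fin]

theorem coordSub_ne_bot {n k : ℕ} (hk0 : 0 < k) (hk : k ≤ n) : coordSub F n k ≠ ⊥ := by
  intro h
  have := finrank_coordSub (F := F) hk
  rw [h, finrank_bot] at this
  omega

theorem coordSub_ne_top {n k : ℕ} (hk : k < n) : coordSub F n k ≠ ⊤ := by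
  intro h
  have := finrank_coordSub (F := F) hk.le
  rw [h, finrank_top, Module.finrank_fintype_fun_eq_card, Fintype.card_fin] at this
  omega

theorem mem_stab_coordSub_iff {n k : ℕ} {g : GL (Fin n) F} :
    g ∈ stab (coordSub F n k) ↔
      ∀ i j : Fin n, k ≤ (i : ℕ) → (j : ℕ) < k → (g : Matrix (Fin n) (Fin n) F) i j = 0 := by
  rw [mem_stab_iff]
  constructor
  · intro h i j hi hj
    have := h (Pi.single j 1) (fun l hl => by
      have : l ≠ j := by rintro rfl; omega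
      simp [this]) i hi
    simpa using this
  · intro h v hv i hi
    simp only [mulVec, dotProduct]
    refine Finset.sum_eq_zero fun j _ => ?_
    by_cases hj : (j : ℕ) < k
    · rw [h i j hi hj, zero_mul]
    · rw [hv j (not_lt.1 hj), mul_zero]

end CL.GLn
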