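import Cfsg.Agent.Base
import Cfsg.Agent.GLn.Stab

/-!
Transitivity of transvection groups on the non-zero vectors of a subspace; all transvections
are conjugate in `SL_n` for `n ≥ 3`; the field with four elements.
-/

set_option autoImplicit false

namespace CL.GLn

open Matrix

variable {ι : Type} [Fintype ι] [DecidableEq ι] {F : Type*} [Field F]

theorem notMem_span_singleton_symm {V : Type*} [AddCommGroup V] [Module F V] {u v : V}
    (hu : u ≠ 0) (h : v ∉ F ∙ u) : u ∉ F ∙ v := by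
  intro h1
  obtain ⟨c, rfl⟩ := Submodule.mem_span_singleton.1 h1
  have hc : c ≠ 0 := by rintro rfl; exact hu (by simp)
  apply h
  rw [Submodule.mem_span_singleton]
  exact ⟨c⁻¹, by rw [smul_smul, inv_mul_cancel₀ hc, one_smul]⟩

theorem notMem_span_sub {V : Type*} [AddCommGroup V] [Module F V] {u v : V}
    (hu : u ≠ 0) (h : v ∉ F ∙ u) : u ∉ F ∙ (v - u) := by
  apply notMem_span_singleton_symm hu
  intro h1
  apply h
  have := Submodule.add_mem _ h1 (Submodule.mem_span_singleton_self u)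
  rwa [sub_add_cancel] at this

/-- The transvections with centre in a subspace `U` of dimension at least two are transitive on
the non-zero vectors of `U`. -/
theorem exists_SL_mulVec_eq_of_mem (U : Submodule F (ι → F)) (hU : 2 ≤ Module.finrank F U)
    {u v : ι → F} (huU : u ∈ U) (hvU : v ∈ U) (hu : u ≠ 0) (hv : v ≠ 0) :
    ∃ g : SpecialLinearGroup ι F, (g : Matrix ι ι F) *ᵥ u = v ∧
      ∀ y : ι → F, (∀ a ∈ U, a ⬝ᵥ y = 0) → y ᵥ* (g : Matrix ι ι F) = y := by
  have key : ∀ {u v : ι → F}, u ∈ U → v ∈ U → u ≠ 0 → v ∉ F ∙ u →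
      ∃ g : SpecialLinearGroup ι F, (g : Matrix ι ι F) *ᵥ u = v ∧
      ∀ y : ι → F, (∀ a ∈ U, a ⬝ᵥ y = 0) → y ᵥ* (g : Matrix ι ι F) = y := by
    intro u v huU hvU hu h
    obtain ⟨w, hw0, hw1⟩ := exists_dot_zero_one (notMem_span_sub hu h)
    refine ⟨tv (v - u) w hw0, by rw [tv_mulVec, hw1, one_smul, add_sub_cancel], fun y hy => ?_⟩
    rw [tv_coe, vecMul_add, vecMul_one, vecMul_vecMulVec, dotProduct_comm,
      hy _ (U.sub_mem hvU huU), zero_smul, add_zero]
  by_cases h : v ∈ F ∙ u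
  · obtain ⟨z, hzU, hz⟩ : ∃ z ∈ U, z ∉ F ∙ u := by
      by_contra! hz
      have h1 := Submodule.finrank_mono (show U ≤ F ∙ u from hz)
      rw [finrank_span_singleton hu] at h1
      omega
    have hz' : v ∉ F ∙ z := by
      intro h1
      obtain ⟨c, rfl⟩ := Submodule.mem_span_singleton.1 h1
      have hc : c ≠ 0 := by rintro rfl; exact hv (by simp)
      apply hz
      have := Submodule.smul_mem _ c⁻¹ h
      rwa [smul_smul, inv_mul_cancel₀ hc, one_smul] at this
    have hz0 : z ≠ 0 := by rintro rfl; exact hz (Submodule.zero_mem _)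
    obtain ⟨g1, h1, h1'⟩ := key huU hzU hu hz
    obtain ⟨g2, h2, h2'⟩ := key hzU hvU hz0 hz'
    refine ⟨g2 * g1, by rw [Matrix.SpecialLinearGroup.coe_mul, ← mulVec_mulVec, h1, h2],
      fun y hy => ?_⟩
    rw [Matrix.SpecialLinearGroup.coe_mul, ← vecMul_vecMul, h2' y hy, h1' y hy]
  · exact key huU hvU hu h

/-- The hyperplane of vectors orthogonal to `w`. -/
def perp (w : ι → F) : Submodule F (ι → F) := LinearMap.ker (dotProductEquiv F ι w)

theorem mem_perp {w x : ι → F} : x ∈ perp w ↔ w ⬝ᵥ x = 0 := Iff.rfl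

theorem finrank_perp {w : ι → F} (hw : w ≠ 0) :
    Module.finrank F (perp w) + 1 = Fintype.card ι := by
  have h : dotProductEquiv F ι w ≠ 0 := by simpa using hw
  have := Module.Dual.finrank_ker_add_one_of_ne_zero h
  rwa [Module.finrank_fintype_fun_eq_card] at this

theorem conj_tv (g : SpecialLinearGroup ι F) (v w : ι → F) (h : w ⬝ᵥ v = 0) :
    g * tv v w h * g⁻¹ = tv ((g : Matrix ι ι F) *ᵥ v)
      (w ᵥ* ((g⁻¹ : SpecialLinearGroup ι F) : Matrix ι ι F))
      (by
        rw [← dotProduct_mulVec, mulVec_mulVec, ← Matrix.SpecialLinearGroup.coe_mul,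
          inv_mul_cancel, Matrix.SpecialLinearGroup.coe_one, one_mulVec, h]) := by
  apply Subtype.ext
  simp only [Matrix.SpecialLinearGroup.coe_mul, tv_coe, mul_add, add_mul, mul_one, mul_vecMulVec,
    vecMulVec_mul]
  rw [← Matrix.SpecialLinearGroup.coe_mul, mul_inv_cancel, Matrix.SpecialLinearGroup.coe_one]

/-- In dimension at least three `SL` is transitive on pairs (non-zero vector, non-zero functional
vanishing on it). -/
theorem exists_SL_flag (h3 : 3 ≤ Fintype.card ι) {v w v' w' : ι → F} (hv : v ≠ 0) (hw : w ≠ 0)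
    (hv' : v' ≠ 0) (hw' : w' ≠ 0) (h : w ⬝ᵥ v = 0) (h' : w' ⬝ᵥ v' = 0) :
    ∃ g : SpecialLinearGroup ι F, (g : Matrix ι ι F) *ᵥ v = v' ∧
      w' ᵥ* (g : Matrix ι ι F) = w := by
  have : Nontrivial ι := Fintype.one_lt_card_iff_nontrivial.1 (by omega)
  obtain ⟨g1, hg1⟩ := exists_SL_mulVec_eq hw' hw
  -- `g1ᵀ` satisfies `w' ᵥ* g1ᵀ = w`
  have h1 : w' ᵥ* (g1.transpose : Matrix ι ι F) = w := by
    rw [SpecialLinearGroup.coe_transpose, vecMul_transpose, hg1]
  have h2 : (g1.transpose : Matrix ι ι F) *ᵥ v ∈ perp w' := by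
    rw [mem_perp, dotProduct_mulVec, h1, h]
  have h4 : (g1.transpose : Matrix ι ι F) *ᵥ v ≠ 0 :=
    gl_mulVec_ne_zero (SpecialLinearGroup.toGL g1.transpose) hv
  obtain ⟨g2, hg2, hg2'⟩ := exists_SL_mulVec_eq_of_mem (perp w')
    (by have := finrank_perp hw'; omega) h2 h' h4 hv'
  refine ⟨g2 * g1.transpose, ?_, ?_⟩
  · rw [Matrix.SpecialLinearGroup.coe_mul, ← mulVec_mulVec, hg2]
  · rw [Matrix.SpecialLinearGroup.coe_mul, ← vecMul_vecMul,
      hg2' w' (fun a ha => by rw [dotProduct_comm]; exact ha), h1]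

/-- In dimension at least three all transvections are conjugate in `SL`. -/
theorem isConj_tv (h3 : 3 ≤ Fintype.card ι) {v w v' w' : ι → F} (hv : v ≠ 0) (hw : w ≠ 0)
    (hv' : v' ≠ 0) (hw' : w' ≠ 0) (h : w ⬝ᵥ v = 0) (h' : w' ⬝ᵥ v' = 0) :
    IsConj (tv v w h) (tv v' w' h') := by
  obtain ⟨g, h1, h2⟩ := exists_SL_flag h3 hv hw hv' hw' h h'
  rw [isConj_iff]
  refine ⟨g, ?_⟩
  rw [conj_tv]
  congr 1
  rw [← h2, vecMul_vecMul, ← Matrix.SpecialLinearGroup.coe_mul, mul_inv_cancel,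
    Matrix.SpecialLinearGroup.coe_one, vecMul_one]

theorem exists_eq_tv_of_isTransvection {t : SpecialLinearGroup ι F}
    (ht : Cfsg.IsTransvection (t : Matrix ι ι F)) :
    ∃ (v w : ι → F) (h : w ⬝ᵥ v = 0), v ≠ 0 ∧ w ≠ 0 ∧ t = tv v w h := by
  obtain ⟨h1, h2⟩ := ht
  obtain ⟨a, b, ha, hb, hab⟩ := exists_eq_vecMulVec_of_rank_eq_one h1
  have hba : b ⬝ᵥ a = 0 := by
    rw [hab, vecMulVec_mul_vecMulVec', smul_eq_zero] at h2
    exact h2.resolve_right (vecMulVec_ne_zero ha hb)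
  refine ⟨a, b, hba, ha, hb, Subtype.ext ?_⟩
  rw [tv_coe, ← hab]; simp

/-- The field with four elements. -/
theorem field_four [Fintype F] (hF : Fintype.card F = 4) :
    (2 : F) = 0 ∧ ∃ w : F, w ^ 2 + w + 1 = 0 ∧ ∀ x : F, x = 0 ∨ x = 1 ∨ x = w ∨ x = w + 1 := by
  classical
  have h4 : (4 : F) = 0 := by
    have := FiniteField.cast_card_eq_zero F
    rw [hF] at this
    exact_mod_cast this
  have h2 : (2 : F) = 0 := by
    have : (2 : F) * 2 = 0 := by rw [← h4]; norm_num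
    exact mul_self_eq_zero.1 this
  have hp : ∀ x : F, x ^ 4 = x := fun x => by
    have := FiniteField.pow_card x
    rwa [hF] at this
  obtain ⟨w, hw0, hw1⟩ : ∃ w : F, w ≠ 0 ∧ w ≠ 1 := by
    by_contra! h
    have : (Finset.univ : Finset F) ⊆ {0, 1} := by
      intro k _
      by_cases hk : k = 0
      · simp [hk]
      · simp [h k hk]
    have h2 := Finset.card_le_card this
    have h3 : ({0, 1} : Finset F).card ≤ 2 := Finset.card_le_two
    rw [Finset.card_univ] at h2
    omega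
  have hw : w ^ 2 + w + 1 = 0 := by
    have h1 : w * ((w - 1) * (w ^ 2 + w + 1)) = 0 := by linear_combination hp w
    rcases mul_eq_zero.1 h1 with h | h
    · exact absurd h hw0
    · exact (mul_eq_zero.1 h).resolve_left (sub_ne_zero.2 hw1)
  refine ⟨h2, w, hw, fun x => ?_⟩
  have h1 : x * ((x - 1) * ((x - w) * (x - (w + 1)))) = 0 := by
    have := hp x
    grind
  simp only [mul_eq_zero, sub_eq_zero] at h1
  exact h1

end CL.GLn
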