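import Cfsg.Agent.Base
import Cfsg.Agent.GLn.Conj
import Cfsg.Agent.GLn.FTPG
import Cfsg.Agent.GLn.AutPerm

/-!
Permutations of projective space induced by semilinear bijections of `F^ι`.
-/

set_option autoImplicit false

namespace CL.GLn

open Matrix
open scoped LinearAlgebra.Projectivization MatrixGroups

variable {ι : Type} [Fintype ι] [DecidableEq ι] {F : Type*} [Field F]

/-- A field automorphism applied to all coordinates. -/
def fieldMap (ι : Type) (φ : F ≃+* F) : (ι → F) →ₛₗ[(φ : F →+* F)] (ι → F) where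
  toFun v := fun i => φ (v i)
  map_add' u v := by ext i; simp
  map_smul' c v := by ext i; simp

omit [Fintype ι] [DecidableEq ι] in
theorem fieldMap_apply (φ : F ≃+* F) (v : ι → F) (i : ι) : fieldMap ι φ v i = φ (v i) := rfl

omit [Fintype ι] [DecidableEq ι] in
theorem fieldMap_symm_apply (φ : F ≃+* F) (v : ι → F) :
    fieldMap ι φ.symm (fieldMap ι φ v) = v := by
  ext i; simp [fieldMap_apply]

omit [Fintype ι] [DecidableEq ι] in
theorem fieldMap_apply_symm (φ : F ≃+* F) (v : ι → F) :
    fieldMap ι φ (fieldMap ι φ.symm v) = v := by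
  ext i; simp [fieldMap_apply]

omit [Fintype ι] [DecidableEq ι] in
theorem fieldMap_injective (φ : F ≃+* F) : Function.Injective (fieldMap ι φ) :=
  Function.LeftInverse.injective (fieldMap_symm_apply φ)

omit [Fintype ι] [DecidableEq ι] in
theorem fieldMap_ne_zero (φ : F ≃+* F) {v : ι → F} (hv : v ≠ 0) : fieldMap ι φ v ≠ 0 :=
  fun h => hv (fieldMap_injective φ (by rw [h, map_zero]))

omit [Fintype ι] [DecidableEq ι] in
theorem fieldMap_smul (φ : F ≃+* F) (c : F) (v : ι → F) :
    fieldMap ι φ (c • v) = φ c • fieldMap ι φ v := map_smulₛₗ _ _ _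

omit [Fintype ι] in
theorem fieldMap_single (φ : F ≃+* F) (i : ι) (c : F) :
    fieldMap ι φ (Pi.single i c) = Pi.single i (φ c) := by
  ext j
  by_cases h : j = i
  · subst h; simp [fieldMap_apply]
  · simp [fieldMap_apply, h]

omit [DecidableEq ι] in
theorem fieldMap_mulVec (φ : F ≃+* F) (A : Matrix ι ι F) (v : ι → F) :
    fieldMap ι φ (A *ᵥ v) = A.map φ *ᵥ fieldMap ι φ v := by
  ext i
  simp [fieldMap_apply, mulVec, dotProduct]

omit [DecidableEq ι] in
theorem fieldMap_dotProduct (φ : F ≃+* F) (u v : ι → F) :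
    fieldMap ι φ u ⬝ᵥ fieldMap ι φ v = φ (u ⬝ᵥ v) := by
  simp [fieldMap_apply, dotProduct]

/-- The permutation of projective space induced by a field automorphism. -/
def fieldPerm (ι : Type) (φ : F ≃+* F) : Equiv.Perm (ℙ F (ι → F)) where
  toFun := Projectivization.map (fieldMap ι φ) (fieldMap_injective φ)
  invFun := Projectivization.map (fieldMap ι φ.symm) (fieldMap_injective φ.symm)
  left_inv x := by
    induction x using Projectivization.ind with | _ v hv =>
    simp only [Projectivization.map_mk, fieldMap_symm_apply]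
  right_inv x := by
    induction x using Projectivization.ind with | _ v hv =>
    simp only [Projectivization.map_mk, fieldMap_apply_symm]

omit [Fintype ι] [DecidableEq ι] in
theorem fieldPerm_mk (φ : F ≃+* F) (v : ι → F) (hv : v ≠ 0) :
    fieldPerm ι φ (.mk F v hv) = .mk F (fieldMap ι φ v) (fieldMap_ne_zero φ hv) := rfl

theorem gl_smul_mk (A : GL ι F) (v : ι → F) (hv : v ≠ 0) :
    A • Projectivization.mk F v hv =
      .mk F ((A : Matrix ι ι F) *ᵥ v) (gl_mulVec_ne_zero A hv) := rfl

theorem pgl_smul (A : GL ι F) (x : ℙ F (ι → F)) : (ProjGenLinGroup.mk A) • x = A • x := rfl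

theorem sl_smul_eq (A : SpecialLinearGroup ι F) (x : ℙ F (ι → F)) :
    A • x = (SpecialLinearGroup.toGL A) • x := by
  induction x using Projectivization.ind with | _ v hv => rfl

theorem psl_smul_mk (A : SpecialLinearGroup ι F) (v : ι → F) (hv : v ≠ 0) :
    (A : ProjectiveSpecialLinearGroup ι F) • Projectivization.mk F v hv =
      .mk F ((A : Matrix ι ι F) *ᵥ v) (gl_mulVec_ne_zero (SpecialLinearGroup.toGL A) hv) := rfl

/-- The permutation of projective space induced by the semilinear map `v ↦ g (φ v)`. -/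
def semiPerm (φ : F ≃+* F) (g : PGL(ι, F)) : Equiv.Perm (ℙ F (ι → F)) :=
  MulAction.toPerm g * fieldPerm ι φ

theorem semiPerm_mk (φ : F ≃+* F) (A : GL ι F) (v : ι → F) (hv : v ≠ 0) :
    semiPerm φ (ProjGenLinGroup.mk A) (.mk F v hv) =
      .mk F ((A : Matrix ι ι F) *ᵥ fieldMap ι φ v)
        (gl_mulVec_ne_zero A (fieldMap_ne_zero φ hv)) := rfl

/-- A semilinear map of `F^ι` (`ι` with two elements at least) that induces the same map on
points as a field automorphism is a scalar times that field automorphism. -/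
theorem semi_unique_aux [Nontrivial ι] (φ ψ : F ≃+* F) (C : Matrix ι ι F)
    (h : ∀ v : ι → F, v ≠ 0 → ∃ c : F, c ≠ 0 ∧ C *ᵥ fieldMap ι φ v = c • fieldMap ι ψ v) :
    φ = ψ ∧ ∃ c : F, c ≠ 0 ∧ C = scalar ι c := by
  have hne : ∀ (i j : ι) (a : F), i ≠ j → (Pi.single i 1 + Pi.single j a : ι → F) ≠ 0 := by
    intro i j a hij h0
    have := congrFun h0 i
    simp [hij] at this
  choose c hc0 hc using fun i : ι => h (Pi.single i 1) (by simp)
  simp only [fieldMap_single, map_one] at hc
  have key : ∀ (i j : ι) (a : F), i ≠ j → c j * φ a = c i * ψ a := by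
    intro i j a hij
    obtain ⟨d, -, hd⟩ := h _ (hne i j a hij)
    have e1 : (Pi.single j (φ a) : ι → F) = φ a • Pi.single j 1 := by
      rw [← Pi.single_smul, smul_eq_mul, mul_one]
    simp only [map_add, fieldMap_single, map_one, mulVec_add] at hd
    rw [e1, mulVec_smul, hc, hc] at hd
    have h1 := congrFun hd i
    have h2 := congrFun hd j
    simp [hij, hij.symm] at h1 h2
    rw [h1, ← h2, mul_comm]
  obtain ⟨i₀, j₀, hij₀⟩ := exists_pair_ne ι
  have hcc : ∀ i j, c i = c j := by
    intro i j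
    by_cases hij : i = j
    · rw [hij]
    · simpa using (key i j 1 hij).symm
  refine ⟨RingEquiv.ext fun a => ?_, c i₀, hc0 i₀, ?_⟩
  · have := key i₀ j₀ a hij₀
    rw [hcc j₀ i₀] at this
    exact mul_left_cancel₀ (hc0 i₀) this
  · ext i j
    have := congrFun (hc j) i
    rw [hcc j i₀] at this
    simp only [mulVec_single, MulOpposite.op_one, one_smul, col_apply, Pi.smul_apply,
      smul_eq_mul] at this
    rw [this, scalar_apply, diagonal_apply, Pi.single_apply]
    split_ifs <;> simp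

theorem semiPerm_injective [Nontrivial ι] :
    Function.Injective fun p : (F ≃+* F) × PGL(ι, F) => semiPerm p.1 p.2 := by
  rintro ⟨φ, g⟩ ⟨ψ, g'⟩ h
  induction g using ProjGenLinGroup.induction_on with | _ A =>
  induction g' using ProjGenLinGroup.induction_on with | _ B =>
  obtain ⟨h1, c, hc0, hc⟩ := semi_unique_aux φ ψ ((B⁻¹ * A : GL ι F) : Matrix ι ι F) (by
    intro v hv
    have h1 : semiPerm φ (ProjGenLinGroup.mk A) (.mk F v hv) =
      semiPerm ψ (ProjGenLinGroup.mk B) (.mk F v hv) := by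
      simp only at h; rw [h]
    rw [semiPerm_mk, semiPerm_mk, Projectivization.mk_eq_mk_iff] at h1
    obtain ⟨c, hc⟩ := h1
    refine ⟨c, c.ne_zero, ?_⟩
    rw [gl_mul_mulVec, ← hc, Units.smul_def, mulVec_smul, gl_inv_mulVec_mulVec])
  refine Prod.ext h1 ?_
  simp only
  have h2 : B⁻¹ * A = GeneralLinearGroup.scalar ι (Units.mk0 c hc0) := Units.ext hc
  rw [← mul_inv_cancel_left B A, map_mul, h2, ProjGenLinGroup.mk_scalar, mul_one]

/-- An injective semilinear map of `F^ι` over a finite field is `v ↦ A (φ v)`. -/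
theorem exists_gl_of_semilinear [Finite F] {φ : F →+* F} (f : (ι → F) →ₛₗ[φ] (ι → F))
    (hf : Function.Injective f) :
    ∃ (φ' : F ≃+* F) (A : GL ι F), (∀ a, φ' a = φ a) ∧
      ∀ v, f v = (A : Matrix ι ι F) *ᵥ fieldMap ι φ' v := by
  let φ' : F ≃+* F := RingEquiv.ofBijective φ
    ⟨φ.injective, Finite.surjective_of_injective φ.injective⟩
  let M : Matrix ι ι F := Matrix.of fun i j => f (Pi.single j 1) i
  have hM : ∀ v, f v = M *ᵥ fieldMap ι φ' v := by
    intro v
    conv_lhs => rw [pi_eq_sum_univ' v, map_sum]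
    ext i
    simp only [map_smulₛₗ, Finset.sum_apply, Pi.smul_apply, smul_eq_mul, mulVec, dotProduct, M,
      of_apply, fieldMap_apply]
    refine Finset.sum_congr rfl fun j _ => ?_
    rw [mul_comm]
    rfl
  have hinj : Function.Injective M.mulVec := by
    intro u v huv
    rw [← fieldMap_apply_symm φ' u, ← fieldMap_apply_symm φ' v] at huv ⊢
    rw [← hM, ← hM] at huv
    rw [hf huv]
  have hunit : IsUnit M := mulVec_injective_iff_isUnit.1 hinj
  exact ⟨φ', hunit.unit, fun _ => rfl, hM⟩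

/-- Fundamental theorem of projective geometry for `F^ι`, `F` finite: a permutation of the points
preserving collinearity is induced by a semilinear bijection. -/
theorem exists_semiPerm_of_collinear [Finite F] (h3 : 3 ≤ Fintype.card ι)
    (σ : Equiv.Perm (ℙ F (ι → F)))
    (hσ : ∀ x y z : ℙ F (ι → F), z.submodule ≤ x.submodule ⊔ y.submodule ↔
      (σ z).submodule ≤ (σ x).submodule ⊔ (σ y).submodule) :
    ∃ (φ : F ≃+* F) (A : GL ι F), σ = semiPerm φ (ProjGenLinGroup.mk A) := by
  obtain ⟨φ, f, hf, h⟩ := ftpg σ hσ (exists_ind3_of_finrank (by simpa using h3))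
  obtain ⟨φ', A, -, hA⟩ := exists_gl_of_semilinear f hf
  refine ⟨φ', A, Equiv.ext fun x => ?_⟩
  induction x using Projectivization.ind with | _ v hv =>
  rw [h, Projectivization.map_mk, semiPerm_mk]
  simp only [hA]

/-- Counting a set of semilinear permutations. -/
theorem card_of_semiPerm [Nontrivial ι] (N : Set (Equiv.Perm (ℙ F (ι → F))))
    (Γ : Set PGL(ι, F)) (h : ∀ σ, σ ∈ N ↔ ∃ (φ : F ≃+* F), ∃ g ∈ Γ, σ = semiPerm φ g) :
    Nat.card N = Nat.card (F ≃+* F) * Nat.card Γ := by
  rw [← Nat.card_prod]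
  symm
  refine Nat.card_eq_of_bijective (fun p => ⟨semiPerm p.1 p.2.1, (h _).2 ⟨p.1, p.2.1, p.2.2, rfl⟩⟩)
    ⟨fun p p' hp => ?_, fun σ => ?_⟩
  · have := semiPerm_injective (a₁ := (p.1, p.2.1)) (a₂ := (p'.1, p'.2.1)) (congrArg Subtype.val hp)
    exact Prod.ext (Prod.ext_iff.1 this).1 (Subtype.ext (Prod.ext_iff.1 this).2)
  · obtain ⟨φ, g, hg, hσ⟩ := (h σ.1).1 σ.2
    exact ⟨(φ, ⟨g, hg⟩), Subtype.ext hσ.symm⟩

theorem not_dvd_card_proj [Fintype F] [Nonempty ι] (p : ℕ) [hp : Fact p.Prime] [CharP F p] :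
    ¬ p ∣ Nat.card (ℙ F (ι → F)) := by
  intro h
  have h1 := Projectivization.card' F (ι → F)
  obtain ⟨k, -, hk⟩ := FiniteField.card F p
  have h2 : p ∣ Nat.card (ι → F) := by
    rw [Nat.card_fun, Nat.card_eq_fintype_card (α := F), hk, ← pow_mul]
    exact dvd_pow_self p (Nat.mul_ne_zero k.ne_zero Nat.card_pos.ne')
  rw [h1] at h2
  exact hp.out.one_lt.ne' (Nat.dvd_one.1 ((Nat.dvd_add_right (h.mul_right _)).1 h2))

end CL.GLn
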