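import Cfsg.Agent.Base
import Cfsg.Agent.GLn.Stab

/-!
Orders of the Borel subgroup and of the maximal parabolic subgroups of `GL_n(q)`;
the inverse-transpose automorphism.
-/

set_option autoImplicit false

namespace CL.GLn

open Matrix

variable {ι : Type} [Fintype ι] [DecidableEq ι] {F : Type*} [Field F]

/-- Elements of `GL` with a property of the matrix, as matrices of non-zero determinant. -/
def glSubtypeEquiv {κ : Type*} [Fintype κ] [DecidableEq κ] (P : Matrix κ κ F → Prop) :
    {g : GL κ F // P (g : Matrix κ κ F)} ≃ {M : Matrix κ κ F // M.det ≠ 0 ∧ P M} where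
  toFun g := ⟨g.1, g.1.det_ne_zero, g.2⟩
  invFun M := ⟨GeneralLinearGroup.mkOfDetNeZero M.1 M.2.1, M.2.2⟩
  left_inv _ := Subtype.ext (Units.ext rfl)
  right_inv _ := rfl

/-- Elements of `GL` as matrices of non-zero determinant. -/
def glEquivDet {κ : Type*} [Fintype κ] [DecidableEq κ] :
    GL κ F ≃ {M : Matrix κ κ F // M.det ≠ 0} where
  toFun g := ⟨g.1, g.det_ne_zero⟩
  invFun M := GeneralLinearGroup.mkOfDetNeZero M.1 M.2
  left_inv _ := Units.ext rfl
  right_inv _ := rfl

theorem card_lowerTriangular [Fintype F] (n : ℕ) :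
    Nat.card {g : GL (Fin n) F // ∀ i j : Fin n, i < j → (g : Matrix (Fin n) (Fin n) F) i j = 0} =
      Fintype.card F ^ (n * (n - 1) / 2) * (Fintype.card F - 1) ^ n := by
  classical
  rw [Nat.card_congr (glSubtypeEquiv fun M : Matrix (Fin n) (Fin n) F =>
    ∀ i j : Fin n, i < j → M i j = 0)]
  have hdet : ∀ M : Matrix (Fin n) (Fin n) F, (∀ i j : Fin n, i < j → M i j = 0) →
      M.det = ∏ i, M i i := fun M hM => det_of_isLowerTriangular M fun i j h => hM i j h
  let e : {M : Matrix (Fin n) (Fin n) F // M.det ≠ 0 ∧ ∀ i j : Fin n, i < j → M i j = 0} ≃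
      ({x : Fin n × Fin n // x.1 < x.2} → F) × (Fin n → Fˣ) :=
    { toFun := fun M => (fun x => M.1 x.1.2 x.1.1, fun i => Units.mk0 (M.1 i i) (by
        have := M.2.1
        rw [hdet _ M.2.2, Finset.prod_ne_zero_iff] at this
        exact this i (Finset.mem_univ i)))
      invFun := fun p => ⟨Matrix.of fun i j => if h : j < i then p.1 ⟨(j, i), h⟩ else
          if i = j then (p.2 i : F) else 0, by
        have h : ∀ i j : Fin n, i < j → (Matrix.of fun i j => if h : j < i then p.1 ⟨(j, i), h⟩ else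
          if i = j then (p.2 i : F) else 0) i j = 0 := by
          intro i j hij
          simp [not_lt.2 hij.le, hij.ne]
        refine ⟨?_, h⟩
        rw [hdet _ h, Finset.prod_ne_zero_iff]
        intro i _
        simp⟩
      left_inv := fun M => by
        ext i j
        rcases lt_trichotomy i j with h | h | h
        · simp [not_lt.2 h.le, h.ne, M.2.2 i j h]
        · subst h; simp
        · simp [h]
      right_inv := fun p => by
        ext x
        · simp [x.2]
        · simp }
  rw [Nat.card_congr e, Nat.card_prod, Nat.card_fun, Nat.card_fun, Nat.card_units,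
    Nat.card_eq_fintype_card, Nat.card_eq_fintype_card, Nat.card_eq_fintype_card,
    Fintype.card_subtype, Fintype.card_product_filter_lt, Fintype.card_fin, Nat.choose_two_right]

theorem card_blockTriangular [Fintype F] {κ μ : Type*} [Fintype κ] [DecidableEq κ] [Fintype μ]
    [DecidableEq μ] :
    Nat.card {M : Matrix (κ ⊕ μ) (κ ⊕ μ) F // M.det ≠ 0 ∧ M.toBlocks₂₁ = 0} =
      Fintype.card F ^ (Fintype.card κ * Fintype.card μ) * Nat.card (GL κ F) *
        Nat.card (GL μ F) := by
  have hdet : ∀ M : Matrix (κ ⊕ μ) (κ ⊕ μ) F, M.toBlocks₂₁ = 0 →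
      M.det = M.toBlocks₁₁.det * M.toBlocks₂₂.det := fun M hM => by
    conv_lhs => rw [← fromBlocks_toBlocks M, hM, det_fromBlocks_zero₂₁]
  let e : {M : Matrix (κ ⊕ μ) (κ ⊕ μ) F // M.det ≠ 0 ∧ M.toBlocks₂₁ = 0} ≃
      Matrix κ μ F × {A : Matrix κ κ F // A.det ≠ 0} × {D : Matrix μ μ F // D.det ≠ 0} :=
    { toFun := fun M => (M.1.toBlocks₁₂, ⟨M.1.toBlocks₁₁, by
        have := M.2.1
        rw [hdet _ M.2.2] at this
        exact left_ne_zero_of_mul this⟩, ⟨M.1.toBlocks₂₂, by
        have := M.2.1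
        rw [hdet _ M.2.2] at this
        exact right_ne_zero_of_mul this⟩)
      invFun := fun p => ⟨fromBlocks p.2.1.1 p.1 0 p.2.2.1, by
        rw [det_fromBlocks_zero₂₁]
        exact ⟨mul_ne_zero p.2.1.2 p.2.2.2, rfl⟩⟩
      left_inv := fun M => by
        apply Subtype.ext
        conv_rhs => rw [← fromBlocks_toBlocks M.1, M.2.2]
      right_inv := fun p => rfl }
  rw [Nat.card_congr e, Nat.card_prod, Nat.card_prod, ← Nat.card_congr glEquivDet,
    ← Nat.card_congr glEquivDet, mul_assoc]
  congr 1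
  rw [Nat.card_eq_fintype_card]
  change Fintype.card (κ → μ → F) = _
  rw [Fintype.card_fun, Fintype.card_fun, ← pow_mul, mul_comm]

theorem card_stab_coordSub [Fintype F] (k l : ℕ) :
    Nat.card (stab (coordSub F (k + l) k)) =
      Fintype.card F ^ (k * l) * Nat.card (GL (Fin k) F) * Nat.card (GL (Fin l) F) := by
  have h := card_blockTriangular (F := F) (κ := Fin k) (μ := Fin l)
  rw [Fintype.card_fin, Fintype.card_fin] at h
  rw [← h]
  have e1 : stab (coordSub F (k + l) k) ≃ {g : GL (Fin (k + l)) F //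
      ∀ i j : Fin (k + l), k ≤ (i : ℕ) → (j : ℕ) < k →
        (g : Matrix (Fin (k + l)) (Fin (k + l)) F) i j = 0} :=
    Equiv.subtypeEquivRight fun g => mem_stab_coordSub_iff
  rw [Nat.card_congr e1, Nat.card_congr (glSubtypeEquiv
    fun M : Matrix (Fin (k + l)) (Fin (k + l)) F =>
      ∀ i j : Fin (k + l), k ≤ (i : ℕ) → (j : ℕ) < k → M i j = 0)]
  refine Nat.card_congr (Equiv.subtypeEquiv
    (Matrix.reindex finSumFinEquiv.symm finSumFinEquiv.symm) fun M => ?_)
  rw [det_reindex_self]
  refine and_congr Iff.rfl ⟨fun h => ?_, fun h i j hi hj => ?_⟩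
  · ext i j
    exact h _ _ (by simp) (by simp)
  · have := congrFun (congrFun h ⟨i - k, by omega⟩) ⟨j, hj⟩
    simp only [toBlocks₂₁, reindex_apply, Equiv.symm_symm, submatrix_apply,
      finSumFinEquiv_apply_left, finSumFinEquiv_apply_right, of_apply, Matrix.zero_apply] at this
    convert this using 2
    · ext; simp; omega
    · rfl

/-- The inverse-transpose automorphism of `GL`. -/
def invTranspose : GL ι F ≃* GL ι F where
  toFun g := ⟨((g⁻¹ : GL ι F) : Matrix ι ι F)ᵀ, (g : Matrix ι ι F)ᵀ, by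
    rw [← transpose_mul, ← Units.val_mul, mul_inv_cancel, Units.val_one, transpose_one], by
    rw [← transpose_mul, ← Units.val_mul, inv_mul_cancel, Units.val_one, transpose_one]⟩
  invFun g := ⟨((g⁻¹ : GL ι F) : Matrix ι ι F)ᵀ, (g : Matrix ι ι F)ᵀ, by
    rw [← transpose_mul, ← Units.val_mul, mul_inv_cancel, Units.val_one, transpose_one], by
    rw [← transpose_mul, ← Units.val_mul, inv_mul_cancel, Units.val_one, transpose_one]⟩
  left_inv g := Units.ext (transpose_transpose _)
  right_inv g := Units.ext (transpose_transpose _)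
  map_mul' g h := Units.ext (by
    change (((g * h)⁻¹ : GL ι F) : Matrix ι ι F)ᵀ =
      ((g⁻¹ : GL ι F) : Matrix ι ι F)ᵀ * ((h⁻¹ : GL ι F) : Matrix ι ι F)ᵀ
    rw [_root_.mul_inv_rev, Units.val_mul, transpose_mul])

theorem invTranspose_coe (g : GL ι F) :
    (invTranspose g : Matrix ι ι F) = ((g⁻¹ : GL ι F) : Matrix ι ι F)ᵀ := rfl

theorem invTranspose_inv_coe (g : GL ι F) :
    (((invTranspose g)⁻¹ : GL ι F) : Matrix ι ι F) = (g : Matrix ι ι F)ᵀ := rfl

theorem invTranspose_invTranspose (g : GL ι F) : invTranspose (invTranspose g) = g :=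
  Units.ext (transpose_transpose _)

/-- Reindexing `GL` along a permutation of the index set. -/
def glReindex {κ : Type} [Fintype κ] [DecidableEq κ] (e : ι ≃ κ) : GL ι F ≃* GL κ F :=
  Units.mapEquiv (reindexAlgEquiv F F e).toMulEquiv

theorem glReindex_apply {κ : Type} [Fintype κ] [DecidableEq κ] (e : ι ≃ κ) (g : GL ι F)
    (i j : κ) : (glReindex e g : Matrix κ κ F) i j = (g : Matrix ι ι F) (e.symm i) (e.symm j) :=
  rfl

theorem nonempty_stab_coordSub_equiv {n k : ℕ} (hk : k ≤ n) :
    Nonempty (stab (coordSub F n k) ≃* stab (coordSub F n (n - k))) := by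
  let φ : GL (Fin n) F ≃* GL (Fin n) F := invTranspose.trans (glReindex Fin.revPerm)
  have key : ∀ g : GL (Fin n) F, g ∈ stab (coordSub F n k) ↔
      φ g ∈ stab (coordSub F n (n - k)) := by
    intro g
    rw [← Subgroup.inv_mem_iff, mem_stab_coordSub_iff, mem_stab_coordSub_iff]
    have h1 : ∀ i j, (φ g : Matrix (Fin n) (Fin n) F) i j =
        ((g⁻¹ : GL (Fin n) F) : Matrix (Fin n) (Fin n) F) j.rev i.rev := fun i j => rfl
    simp only [h1]
    constructor
    · intro h i j hi hj
      exact h _ _ (by simp; omega) (by simp; omega)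
    · intro h i j hi hj
      have := h j.rev i.rev (by simp; omega) (by simp; omega)
      simpa using this
  have : (stab (coordSub F n k)).map φ.toMonoidHom = stab (coordSub F n (n - k)) := by
    ext g
    rw [Subgroup.mem_map_equiv, key, MulEquiv.apply_symm_apply]
  exact ⟨(φ.subgroupMap _).trans (MulEquiv.subgroupCongr this)⟩

end CL.GLn
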