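import Cfsg.Agent.Base
import Cfsg.Agent.GLn.Semilinear
import Cfsg.Agent.GLn.Count

/-!
Automorphisms of `PSL_n(q)`, part 1: an automorphism maps a point stabiliser to the stabiliser of
a point or of a hyperplane.
-/

set_option autoImplicit false

namespace CL.GLn

open Matrix MulAction CL.AutPerm
open scoped LinearAlgebra.Projectivization MatrixGroups

variable {ι : Type} [Fintype ι] [DecidableEq ι] {F : Type*} [Field F]

theorem sl_mulVec_ne_zero (A : SpecialLinearGroup ι F) {v : ι → F} (hv : v ≠ 0) :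
    (A : Matrix ι ι F) *ᵥ v ≠ 0 := gl_mulVec_ne_zero (SpecialLinearGroup.toGL A) hv

theorem psl_smul_mk' (A : SpecialLinearGroup ι F) (v : ι → F) (hv : v ≠ 0) :
    (A : ProjectiveSpecialLinearGroup ι F) • Projectivization.mk F v hv =
      .mk F ((A : Matrix ι ι F) *ᵥ v) (sl_mulVec_ne_zero A hv) := rfl

theorem psl_smul_mk_eq_iff (A : SpecialLinearGroup ι F) (v : ι → F) (hv : v ≠ 0) (u : ι → F)
    (hu : u ≠ 0) :
    (A : ProjectiveSpecialLinearGroup ι F) • Projectivization.mk F v hv = .mk F u hu ↔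
      ∃ a : F, a • u = (A : Matrix ι ι F) *ᵥ v :=
  Projectivization.mk_eq_mk_iff' F _ _ (sl_mulVec_ne_zero A hv) hu

/-- The preimage in `SL` of a subgroup of `PSL`, seen in `GL`. -/
def up (H : Subgroup (ProjectiveSpecialLinearGroup ι F)) : Subgroup (GL ι F) :=
  (H.comap (QuotientGroup.mk' _)).map SpecialLinearGroup.toGL

theorem toGL_mem_up {H : Subgroup (ProjectiveSpecialLinearGroup ι F)}
    {g : SpecialLinearGroup ι F} :
    SpecialLinearGroup.toGL g ∈ up H ↔ (g : ProjectiveSpecialLinearGroup ι F) ∈ H :=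
  Subgroup.mem_map_iff_mem SpecialLinearGroup.toGL_injective

/-- The stabiliser of a subspace in `PSL`. -/
def pstab (W : Submodule F (ι → F)) : Subgroup (ProjectiveSpecialLinearGroup ι F) :=
  ((stab W).comap SpecialLinearGroup.toGL).map (QuotientGroup.mk' _)

theorem mem_pstab {W : Submodule F (ι → F)} {g : SpecialLinearGroup ι F} :
    (g : ProjectiveSpecialLinearGroup ι F) ∈ pstab W ↔ SpecialLinearGroup.toGL g ∈ stab W := by
  refine ⟨?_, fun h => ⟨g, h, rfl⟩⟩
  rintro ⟨a, ha, hag⟩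
  have h1 : a⁻¹ * g ∈ Subgroup.center (SpecialLinearGroup ι F) := QuotientGroup.eq.1 hag
  obtain ⟨c, -, hc⟩ := Matrix.SpecialLinearGroup.mem_center_iff.1 h1
  have h2 : SpecialLinearGroup.toGL (a⁻¹ * g) ∈ stab W := mem_stab_iff.2 fun v hv => by
    change ((a⁻¹ * g : SpecialLinearGroup ι F) : Matrix ι ι F) *ᵥ v ∈ W
    rw [← hc]
    have : scalar ι c *ᵥ v = c • v := by
      ext i; simp [scalar_apply, mulVec_diagonal]
    rw [this]
    exact W.smul_mem c hv
  have := (stab W).mul_mem ha h2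
  rwa [← map_mul, mul_inv_cancel_left] at this

theorem mem_pstab_iff {W : Submodule F (ι → F)} {g : SpecialLinearGroup ι F} :
    (g : ProjectiveSpecialLinearGroup ι F) ∈ pstab W ↔
      ∀ v ∈ W, (g : Matrix ι ι F) *ᵥ v ∈ W := by
  rw [mem_pstab, mem_stab_iff]; rfl

theorem stabilizer_eq_pstab (x : ℙ F (ι → F)) :
    stabilizer (ProjectiveSpecialLinearGroup ι F) x = pstab x.submodule := by
  ext g
  induction g using QuotientGroup.induction_on with | _ g =>
  induction x using Projectivization.ind with | _ v hv =>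
  rw [mem_stabilizer_iff, psl_smul_mk_eq_iff, mem_pstab_iff, Projectivization.submodule_mk]
  constructor
  · rintro ⟨a, ha⟩ u hu
    obtain ⟨c, rfl⟩ := Submodule.mem_span_singleton.1 hu
    rw [mulVec_smul, ← ha]
    exact Submodule.smul_mem _ _ (Submodule.smul_mem _ _ (Submodule.mem_span_singleton_self v))
  · intro h
    exact Submodule.mem_span_singleton.1 (h v (Submodule.mem_span_singleton_self v))

theorem mem_tvS_up {H : Subgroup (ProjectiveSpecialLinearGroup ι F)} {v : ι → F} :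
    v ∈ tvS (up H) ↔ ∀ w (h : w ⬝ᵥ v = 0),
      ((tv v w h : SpecialLinearGroup ι F) : ProjectiveSpecialLinearGroup ι F) ∈ H := by
  simp only [mem_tvS, gtv, toGL_mem_up]

theorem tvS_up_pstab {W : Submodule F (ι → F)} (hW : W ≠ ⊥) : tvS (up (pstab W)) = W := by
  conv_rhs => rw [← tvS_stab hW]
  ext v
  simp only [mem_tvS, gtv, toGL_mem_up, mem_pstab]

theorem pstab_injective {W W' : Submodule F (ι → F)} (hW : W ≠ ⊥) (hW' : W' ≠ ⊥)
    (h : pstab W = pstab W') : W = W' := by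
  rw [← tvS_up_pstab hW, h, tvS_up_pstab hW']

theorem eq_top_of_tvS_up {H : Subgroup (ProjectiveSpecialLinearGroup ι F)}
    (h : tvS (up H) = ⊤) : H = ⊤ := by
  rw [eq_top_iff]
  intro g _
  induction g using QuotientGroup.induction_on with | _ g =>
  exact toGL_mem_up.1 (toGL_mem_of_tvS_eq_top h g)

theorem le_pstab_tvS (H : Subgroup (ProjectiveSpecialLinearGroup ι F)) :
    H ≤ pstab (tvS (up H)) := by
  intro g hg
  induction g using QuotientGroup.induction_on with | _ g =>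
  exact mem_pstab.2 (le_stab_tvS _ (toGL_mem_up.2 hg))

theorem pstab_ne_top {W : Submodule F (ι → F)} (hW : W ≠ ⊥) (hW' : W ≠ ⊤) : pstab W ≠ ⊤ := by
  intro h
  apply hW'
  rw [← tvS_up_pstab hW, h, eq_top_iff]
  exact fun v _ => mem_tvS_up.2 fun _ _ => Subgroup.mem_top _

/-- The group of transvections with centre `v`, in `PSL`. -/
def tvGroup (v : ι → F) : Subgroup (ProjectiveSpecialLinearGroup ι F) where
  carrier := {g | ∃ (w : ι → F) (h : w ⬝ᵥ v = 0),
    g = ((tv v w h : SpecialLinearGroup ι F) : ProjectiveSpecialLinearGroup ι F)}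
  one_mem' := ⟨0, by simp, by rw [tv_zero_right]; rfl⟩
  mul_mem' := by
    rintro _ _ ⟨w, h, rfl⟩ ⟨w', h', rfl⟩
    exact ⟨w + w', _, by rw [← QuotientGroup.mk_mul, tv_mul_tv_left]⟩
  inv_mem' := by
    rintro _ ⟨w, h, rfl⟩
    refine ⟨-w, by simp [h], ?_⟩
    rw [inv_eq_iff_mul_eq_one, ← QuotientGroup.mk_mul, tv_mul_tv_left]
    simp only [add_neg_cancel]
    rw [tv_zero_right]; rfl

theorem isPGroup_tvGroup (p : ℕ) [CharP F p] (v : ι → F) : IsPGroup p (tvGroup v) := by
  rintro ⟨_, w, h, rfl⟩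
  refine ⟨1, Subtype.ext ?_⟩
  change ((tv v w h : SpecialLinearGroup ι F) : ProjectiveSpecialLinearGroup ι F) ^ (p ^ 1) = 1
  rw [pow_one, ← QuotientGroup.mk_pow, tv_pow_char]; rfl

instance nontrivial_proj [Nontrivial ι] : Nontrivial (ℙ F (ι → F)) := by
  obtain ⟨i, j, hij⟩ := exists_pair_ne ι
  refine ⟨.mk F (Pi.single i 1) (by simp), .mk F (Pi.single j 1) (by simp), ?_⟩
  rw [Ne, Projectivization.mk_eq_mk_iff']
  rintro ⟨a, ha⟩
  have := congrFun ha i
  simp [hij] at this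

theorem psl_two_pretransitive :
    IsMultiplyPretransitive (ProjectiveSpecialLinearGroup ι F) (ℙ F (ι → F)) 2 := by
  have h : IsMultiplyPretransitive (SpecialLinearGroup ι F) (ℙ F (ι → F)) 2 := inferInstance
  rw [is_two_pretransitive_iff] at h ⊢
  intro a b c d hab hcd
  obtain ⟨g, h1, h2⟩ := h hab hcd
  exact ⟨g, h1, h2⟩

/-- The image of a point stabiliser under an automorphism is the stabiliser of a subspace. -/
theorem exists_map_stabilizer_eq_pstab [Fintype F] [Nontrivial ι]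
    (θ : MulAut (ProjectiveSpecialLinearGroup ι F)) :
    ∃ (y : ℙ F (ι → F)) (W : Submodule F (ι → F)), W ≠ ⊥ ∧ W ≠ ⊤ ∧
      (stabilizer _ y).map θ.toMonoidHom = pstab W := by
  obtain ⟨p, hp, k, hpp, -⟩ := FiniteField.card' F
  have : Fact p.Prime := ⟨hpp⟩
  obtain ⟨i⟩ : Nonempty ι := inferInstance
  obtain ⟨y, hy⟩ := exists_le_map_stabilizer (not_dvd_card_proj (ι := ι) (F := F) p) θ
    (tvGroup (Pi.single i 1)) (isPGroup_tvGroup p _)
  set H := (stabilizer (ProjectiveSpecialLinearGroup ι F) y).map θ.toMonoidHom with hH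
  have hco : IsCoatom H := isCoatom_map_equiv θ
    (IsPreprimitive.isCoatom_stabilizer_of_isPreprimitive _ y)
  have h1 : tvS (up H) ≠ ⊥ := by
    rw [Submodule.ne_bot_iff]
    exact ⟨Pi.single i 1, mem_tvS_up.2 fun w h => hy ⟨w, h, rfl⟩, by simp⟩
  have h2 : tvS (up H) ≠ ⊤ := fun h => hco.1 (eq_top_of_tvS_up h)
  exact ⟨y, _, h1, h2, (hco.le_iff_eq (pstab_ne_top h1 h2)).1 (le_pstab_tvS H) |>.symm⟩

/-- In a doubly transitive group a point stabiliser has two double cosets. -/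
theorem double_coset_of_two_pretransitive {G X : Type*} [Group G] [MulAction G X]
    (h2 : IsMultiplyPretransitive G X 2) (y : X) {g g' : G} (hg : g ∉ stabilizer G y)
    (hg' : g' ∉ stabilizer G y) :
    ∃ a ∈ stabilizer G y, ∃ b ∈ stabilizer G y, g' = a * g * b := by
  obtain ⟨a, h1, h3⟩ := is_two_pretransitive_iff.1 h2 (Ne.symm hg) (Ne.symm hg')
  refine ⟨a, h1, (a * g)⁻¹ * g', ?_, by group⟩
  rw [mem_stabilizer_iff, mul_smul, ← h3, inv_smul_eq_iff, mul_smul]

theorem ind3_notMem_of_mod {W : Submodule F (ι → F)} {w₁ w₂ u₁ u₂ : ι → F} (h₁ : w₁ ∈ W)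
    (h₂ : w₂ ∈ W) (hw : Ind2 F w₁ w₂) (hu : ∀ a b : F, a • u₁ + b • u₂ ∈ W → a = 0 ∧ b = 0) :
    ∃ φ : ι → F, φ ⬝ᵥ w₁ = 1 ∧ φ ⬝ᵥ w₂ = 0 ∧ φ ⬝ᵥ u₁ = 0 ∧ φ ⬝ᵥ u₂ = 0 := by
  have : w₁ ∉ Submodule.span F {w₂, u₁, u₂} := by
    intro h
    obtain ⟨a, z, hz, h⟩ := Submodule.mem_span_insert.1 h
    obtain ⟨b, c, rfl⟩ := Submodule.mem_span_pair.1 hz
    have h3 : b • u₁ + c • u₂ ∈ W := by
      have : b • u₁ + c • u₂ = w₁ - a • w₂ := by rw [h]; abel
      rw [this]
      exact W.sub_mem h₁ (W.smul_mem _ h₂)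
    obtain ⟨rfl, rfl⟩ := hu b c h3
    exact one_ne_zero (hw 1 (-a) (by rw [h]; module)).1
  obtain ⟨φ, h0, h1⟩ := exists_dot_of_notMem _ this
  exact ⟨φ, h1, h0 _ (Submodule.subset_span (by simp)), h0 _ (Submodule.subset_span (by simp)),
    h0 _ (Submodule.subset_span (by simp))⟩

/-- If the stabiliser of `W` has two double cosets then `W` is a point or a hyperplane. -/
theorem finrank_of_double_coset {W : Submodule F (ι → F)} (hW : W ≠ ⊥) (hW' : W ≠ ⊤)
    (h : ∀ g g' : ProjectiveSpecialLinearGroup ι F, g ∉ pstab W → g' ∉ pstab W →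
      ∃ a ∈ pstab W, ∃ b ∈ pstab W, g' = a * g * b) :
    Module.finrank F W = 1 ∨ Module.finrank F W + 1 = Fintype.card ι := by
  by_contra! hc
  obtain ⟨hc1, hc2⟩ := hc
  obtain ⟨w₁, h₁, hw₁⟩ := (Submodule.ne_bot_iff W).1 hW
  obtain ⟨w₂, h₂, hw₂⟩ : ∃ w₂ ∈ W, w₂ ∉ F ∙ w₁ := by
    by_contra! hz
    have h1 : W = F ∙ w₁ := le_antisymm hz ((Submodule.span_singleton_le_iff_mem _ _).2 h₁)
    exact hc1 (by rw [h1, finrank_span_singleton hw₁])
  have hw : Ind2 F w₁ w₂ := ind2_iff.2 ⟨hw₁, hw₂⟩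
  obtain ⟨u₁, hu₁⟩ : ∃ u₁, u₁ ∉ W := by
    by_contra! hz
    exact hW' (eq_top_iff.2 fun x _ => hz x)
  obtain ⟨u₂, hu₂⟩ : ∃ u₂, u₂ ∉ W ⊔ F ∙ u₁ := by
    by_contra! hz
    have h1 : W ⊔ F ∙ u₁ = ⊤ := eq_top_iff.2 fun x _ => hz x
    have h2 := Submodule.finrank_sup_span_singleton hu₁
    rw [h1, finrank_top, Module.finrank_fintype_fun_eq_card] at h2
    exact hc2 h2.symm
  have hu : ∀ a b : F, a • u₁ + b • u₂ ∈ W → a = 0 ∧ b = 0 := by
    intro a b hab
    have hb : b = 0 := by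
      by_contra hb
      apply hu₂
      have : u₂ = b⁻¹ • (a • u₁ + b • u₂) + (-(b⁻¹ * a)) • u₁ := by
        rw [smul_add, inv_smul_smul₀ hb]; module
      rw [this]
      exact Submodule.add_mem_sup (W.smul_mem _ hab)
        (Submodule.smul_mem _ _ (Submodule.mem_span_singleton_self _))
    subst hb
    refine ⟨?_, rfl⟩
    by_contra ha
    apply hu₁
    have := W.smul_mem a⁻¹ hab
    simpa [ha] using this
  obtain ⟨φ₁, a1, a2, a3, a4⟩ := ind3_notMem_of_mod h₁ h₂ hw hu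
  obtain ⟨φ₂, b1, b2, b3, b4⟩ := ind3_notMem_of_mod h₂ h₁ hw.symm hu
  let g₁ := tv u₁ φ₁ a3
  let g₂ := tv u₁ φ₁ a3 * tv u₂ φ₂ b4
  have e1 : (g₁ : Matrix ι ι F) *ᵥ w₁ = w₁ + u₁ := by rw [tv_mulVec, a1, one_smul]
  have e2 : (g₂ : Matrix ι ι F) *ᵥ w₁ = w₁ + u₁ := by
    rw [Matrix.SpecialLinearGroup.coe_mul, ← mulVec_mulVec, tv_mulVec u₂, b2, zero_smul, add_zero,
      tv_mulVec, a1, one_smul]
  have e3 : (g₂ : Matrix ι ι F) *ᵥ w₂ = w₂ + u₂ := by
    rw [Matrix.SpecialLinearGroup.coe_mul, ← mulVec_mulVec, tv_mulVec u₂, b1, one_smul,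
      tv_mulVec, dotProduct_add, a2, a4, add_zero, zero_smul, add_zero]
  obtain ⟨a, ha, b, hb, hab⟩ := h g₁ g₂
    (fun hh => hu₁ ((W.add_mem_iff_right h₁).1 (e1 ▸ mem_pstab_iff.1 hh w₁ h₁)))
    (fun hh => hu₁ ((W.add_mem_iff_right h₁).1 (e2 ▸ mem_pstab_iff.1 hh w₁ h₁)))
  induction a using QuotientGroup.induction_on with | _ a =>
  have hb' : (((a * g₁)⁻¹ * g₂ : SpecialLinearGroup ι F) : ProjectiveSpecialLinearGroup ι F) ∈
      pstab W := by
    rw [QuotientGroup.mk_mul, QuotientGroup.mk_inv, QuotientGroup.mk_mul, hab, inv_mul_cancel_left]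
    exact hb
  have key : ∀ w ∈ W, ∃ c : F, (g₂ : Matrix ι ι F) *ᵥ w - c • (a : Matrix ι ι F) *ᵥ u₁ ∈ W := by
    intro w hw
    set w' := (((a * g₁)⁻¹ * g₂ : SpecialLinearGroup ι F) : Matrix ι ι F) *ᵥ w with hw'
    have h1 : w' ∈ W := mem_pstab_iff.1 hb' w hw
    have h2 : (g₂ : Matrix ι ι F) *ᵥ w = (a : Matrix ι ι F) *ᵥ (g₁ : Matrix ι ι F) *ᵥ w' := by
      rw [hw', mulVec_mulVec, mulVec_mulVec, ← Matrix.SpecialLinearGroup.coe_mul,
        ← Matrix.SpecialLinearGroup.coe_mul, mul_inv_cancel_left]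
    refine ⟨φ₁ ⬝ᵥ w', ?_⟩
    rw [h2, tv_mulVec, mulVec_add, mulVec_smul, add_sub_cancel_right]
    exact mem_pstab_iff.1 ha _ h1
  obtain ⟨c₁, k1⟩ := key w₁ h₁
  obtain ⟨c₂, k2⟩ := key w₂ h₂
  rw [e2, add_sub_assoc, W.add_mem_iff_right h₁] at k1
  rw [e3, add_sub_assoc, W.add_mem_iff_right h₂] at k2
  have k3 := hu c₂ (-c₁) (by
    have : c₂ • u₁ + -c₁ • u₂ = c₂ • (u₁ - c₁ • (a : Matrix ι ι F) *ᵥ u₁) -
      c₁ • (u₂ - c₂ • (a : Matrix ι ι F) *ᵥ u₁) := by module
    rw [this]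
    exact W.sub_mem (W.smul_mem _ k1) (W.smul_mem _ k2))
  rw [neg_eq_zero.1 k3.2] at k1
  exact hu₁ (by simpa using k1)

theorem exists_map_stabilizer_eq_pstab' [Fintype F] [Nontrivial ι]
    (θ : MulAut (ProjectiveSpecialLinearGroup ι F)) :
    ∃ (y : ℙ F (ι → F)) (W : Submodule F (ι → F)),
      (Module.finrank F W = 1 ∨ Module.finrank F W + 1 = Fintype.card ι) ∧
      (stabilizer _ y).map θ.toMonoidHom = pstab W := by
  obtain ⟨y, W, h1, h2, h⟩ := exists_map_stabilizer_eq_pstab θ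
  refine ⟨y, W, finrank_of_double_coset h1 h2 fun g g' hg hg' => ?_, h⟩
  rw [← h] at hg hg' ⊢
  rw [Subgroup.mem_map_equiv] at hg hg'
  obtain ⟨a, ha, b, hb, hab⟩ := double_coset_of_two_pretransitive psl_two_pretransitive y hg hg'
  refine ⟨θ a, ⟨a, ha, rfl⟩, θ b, ⟨b, hb, rfl⟩, ?_⟩
  apply θ.symm.injective
  simpa using hab

theorem sl_transpose_mul (g h : SpecialLinearGroup ι F) :
    (g * h).transpose = h.transpose * g.transpose :=
  Subtype.ext (transpose_mul _ _)

theorem sl_transpose_inv (g : SpecialLinearGroup ι F) : g⁻¹.transpose = g.transpose⁻¹ := by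
  rw [eq_inv_iff_mul_eq_one, ← sl_transpose_mul, mul_inv_cancel]
  exact Subtype.ext transpose_one

theorem sl_transpose_transpose (g : SpecialLinearGroup ι F) : g.transpose.transpose = g :=
  Subtype.ext (transpose_transpose _)

/-- The inverse-transpose automorphism of `SL`. -/
def slInvTranspose : SpecialLinearGroup ι F ≃* SpecialLinearGroup ι F where
  toFun g := g⁻¹.transpose
  invFun g := g⁻¹.transpose
  left_inv g := by
    simp only
    rw [← sl_transpose_inv, inv_inv, sl_transpose_transpose]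
  right_inv g := by
    simp only
    rw [← sl_transpose_inv, inv_inv, sl_transpose_transpose]
  map_mul' g h := by rw [_root_.mul_inv_rev, sl_transpose_mul]

/-- The graph automorphism of `PSL`. -/
def graphAut : MulAut (ProjectiveSpecialLinearGroup ι F) := centerQuot slInvTranspose

theorem graphAut_mk (g : SpecialLinearGroup ι F) :
    graphAut (g : ProjectiveSpecialLinearGroup ι F) =
      (g⁻¹.transpose : SpecialLinearGroup ι F) := rfl

theorem graphAut_graphAut (g : ProjectiveSpecialLinearGroup ι F) : graphAut (graphAut g) = g := by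
  induction g using QuotientGroup.induction_on with | _ g =>
  rw [graphAut_mk, graphAut_mk, ← sl_transpose_inv, inv_inv, sl_transpose_transpose]

theorem graphAut_mem_pstab_perp {w : ι → F} (g : ProjectiveSpecialLinearGroup ι F) :
    graphAut g ∈ pstab (perp w) ↔ g ∈ pstab (F ∙ w) := by
  induction g using QuotientGroup.induction_on with | _ g =>
  rw [graphAut_mk, ← Subgroup.inv_mem_iff (pstab (F ∙ w)), ← QuotientGroup.mk_inv, mem_pstab_iff,
    mem_pstab_iff]
  generalize g⁻¹ = h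
  have e : ∀ v, w ⬝ᵥ ((h.transpose : SpecialLinearGroup ι F) : Matrix ι ι F) *ᵥ v =
      ((h : Matrix ι ι F) *ᵥ w) ⬝ᵥ v := by
    intro v
    rw [dotProduct_mulVec, SpecialLinearGroup.coe_transpose, vecMul_transpose]
  simp only [mem_perp, e]
  constructor
  · intro H u hu
    obtain ⟨c, rfl⟩ := Submodule.mem_span_singleton.1 hu
    rw [mulVec_smul]
    apply Submodule.smul_mem
    by_contra hn
    obtain ⟨z, h0, h1⟩ := exists_dot_zero_one hn
    have := H z (by rw [dotProduct_comm, h0])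
    rw [dotProduct_comm, h1] at this
    exact one_ne_zero this
  · intro H v hv
    obtain ⟨c, hc⟩ := Submodule.mem_span_singleton.1 (H w (Submodule.mem_span_singleton_self w))
    rw [← hc, smul_dotProduct, hv, smul_zero]

theorem map_graphAut_pstab_perp (w : ι → F) :
    (pstab (perp w)).map (graphAut (ι := ι) (F := F)).toMonoidHom = pstab (F ∙ w) := by
  ext g
  rw [← graphAut_mem_pstab_perp]
  constructor
  · rintro ⟨a, ha, rfl⟩
    change graphAut (graphAut a) ∈ _
    rwa [graphAut_graphAut]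
  · intro h
    exact ⟨_, h, graphAut_graphAut g⟩

theorem exists_eq_perp {W : Submodule F (ι → F)} (h : Module.finrank F W + 1 = Fintype.card ι) :
    ∃ w : ι → F, w ≠ 0 ∧ W = perp w := by
  obtain ⟨u, hu⟩ : ∃ u, u ∉ W := by
    by_contra! hz
    have : W = ⊤ := eq_top_iff.2 fun x _ => hz x
    rw [this, finrank_top, Module.finrank_fintype_fun_eq_card] at h
    omega
  obtain ⟨w, h0, h1⟩ := exists_dot_of_notMem W hu
  have hw : w ≠ 0 := by rintro rfl; simp at h1
  refine ⟨w, hw, Submodule.eq_of_le_of_finrank_eq (fun x hx => h0 x hx) ?_⟩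
  have := finrank_perp hw
  omega

theorem mem_permAut_or [Fintype F] [Nontrivial ι]
    (θ : MulAut (ProjectiveSpecialLinearGroup ι F)) :
    θ ∈ permAut (ProjectiveSpecialLinearGroup ι F) (ℙ F (ι → F)) ∨
      (3 ≤ Fintype.card ι ∧
        graphAut * θ ∈ permAut (ProjectiveSpecialLinearGroup ι F) (ℙ F (ι → F))) := by
  obtain ⟨y, W, hW, h⟩ := exists_map_stabilizer_eq_pstab' θ
  by_cases h1 : Module.finrank F W = 1
  · left
    apply mem_permAut_of_stabilizer θ y (Projectivization.mk'' W h1)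
    rw [h, stabilizer_eq_pstab, Projectivization.submodule_mk'']
  · right
    have h2 := hW.resolve_left h1
    obtain ⟨w, hw, rfl⟩ := exists_eq_perp h2
    have h3 := Fintype.one_lt_card (α := ι)
    refine ⟨by omega, ?_⟩
    apply mem_permAut_of_stabilizer _ y (.mk F w hw)
    rw [stabilizer_eq_pstab (.mk F w hw), Projectivization.submodule_mk, ← map_graphAut_pstab_perp,
      ← h, Subgroup.map_map]
    rfl

theorem graphAut_notMem_permAut (h3 : 3 ≤ Fintype.card ι) :
    graphAut ∉ permAut (ProjectiveSpecialLinearGroup ι F) (ℙ F (ι → F)) := by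
  rintro ⟨σ, hσ⟩
  have : Nonempty ι := Fintype.card_pos_iff.1 (by omega)
  obtain ⟨i⟩ := this
  have hw : (Pi.single i 1 : ι → F) ≠ 0 := by simp
  have h1 := hσ.map_stabilizer (σ.symm (.mk F _ hw))
  rw [Equiv.apply_symm_apply, stabilizer_eq_pstab, stabilizer_eq_pstab,
    Projectivization.submodule_mk, ← map_graphAut_pstab_perp] at h1
  have h2 := Subgroup.map_injective graphAut.injective h1
  have h4 := finrank_perp hw
  have h5 := pstab_injective (by
    intro h0
    have := (σ.symm (.mk F _ hw)).finrank_submodule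
    rw [h0, finrank_bot] at this
    omega) (by
    intro h0
    rw [h0, finrank_bot] at h4
    omega) h2
  rw [← h5, Projectivization.finrank_submodule] at h4
  omega

theorem index_permAut [Fintype F] [Nontrivial ι] :
    (permAut (ProjectiveSpecialLinearGroup ι F) (ℙ F (ι → F))).index =
      if Fintype.card ι = 2 then 1 else 2 := by
  split_ifs with h
  · rw [Subgroup.index_eq_one, eq_top_iff]
    intro θ _
    exact (mem_permAut_or θ).resolve_right (by omega)
  · have h3 : 3 ≤ Fintype.card ι := by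
      have := Fintype.one_lt_card (α := ι)
      omega
    rw [Subgroup.index_eq_two_iff']
    refine ⟨graphAut, fun θ => ?_⟩
    by_cases hθ : θ ∈ permAut (ProjectiveSpecialLinearGroup ι F) (ℙ F (ι → F))
    · refine Or.inr ⟨hθ, fun h => graphAut_notMem_permAut (F := F) h3 ?_⟩
      have := Subgroup.mul_mem _ h (Subgroup.inv_mem _ hθ)
      rwa [mul_inv_cancel_right] at this
    · exact Or.inl ⟨((mem_permAut_or θ).resolve_left hθ).2, hθ⟩

end CL.GLn
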