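import Cfsg.Agent.Base
import Cfsg.Agent.GLn.AutPSL
import Cfsg.Agent.Auto.ACL_GLn_semiPerm_8ed688

/-!
Automorphisms of `PSL_n(q)`, part 2: the normaliser of `PSL_n(q)` in the symmetric group of
projective space is `PΓL_n(q)`; the order of `Aut(PSL_n(q))`.
-/

set_option autoImplicit false

namespace CL.GLn

open Matrix MulAction CL.AutPerm
open scoped LinearAlgebra.Projectivization MatrixGroups

variable {ι : Type} [Fintype ι] [DecidableEq ι] {F : Type*} [Field F]

theorem semiPerm_mem_permNorm [Finite F] (φ : F ≃+* F) (g : PGL(ι, F)) :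
    semiPerm φ g ∈ permNorm (ProjectiveSpecialLinearGroup ι F) (ℙ F (ι → F)) := by
  induction g using ProjGenLinGroup.induction_on with | _ A =>
  apply mem_permNorm_of_forall
  intro g
  induction g using QuotientGroup.induction_on with | _ g =>
  have hdet : ((A : Matrix ι ι F) * (g : Matrix ι ι F).map φ *
      ((A⁻¹ : GL ι F) : Matrix ι ι F)).det = 1 := by
    have h1 : ((g : Matrix ι ι F).map φ).det = 1 := by
      have := (φ : F →+* F).map_det (g : Matrix ι ι F)
      rw [g.2, map_one] at this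
      exact this.symm
    rw [det_mul, det_mul, h1, mul_one, ← det_mul, ← Units.val_mul, mul_inv_cancel, Units.val_one,
      det_one]
  let g' : SpecialLinearGroup ι F := ⟨_, hdet⟩
  have hg' : (g' : Matrix ι ι F) = (A : Matrix ι ι F) * (g : Matrix ι ι F).map φ *
      ((A⁻¹ : GL ι F) : Matrix ι ι F) := rfl
  refine ⟨(g' : ProjectiveSpecialLinearGroup ι F), fun x => ?_⟩
  induction x using Projectivization.ind with | _ v hv =>
  rw [psl_smul_mk', semiPerm_mk, semiPerm_mk, eq_comm, psl_smul_mk_eq_iff]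
  refine ⟨1, ?_⟩
  rw [one_smul, fieldMap_mulVec, hg']
  simp only [← mulVec_mulVec, gl_inv_mulVec_mulVec]

theorem eigen_eq_of_pow (p : ℕ) [hp : Fact p.Prime] [CharP F p] {A : Matrix ι ι F} {c : F}
    (hA : A ^ p = scalar ι c) {u v : ι → F} (hu : u ≠ 0) (hv : v ≠ 0) {a b : F}
    (ha : a • u = A *ᵥ u) (hb : b • v = A *ᵥ v) : a = b := by
  have key : ∀ {u : ι → F} {a : F}, u ≠ 0 → a • u = A *ᵥ u → a ^ p = c := by
    intro u a hu ha
    have h1 : ∀ k : ℕ, A ^ k *ᵥ u = a ^ k • u := by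
      intro k
      induction k with
      | zero => simp
      | succ k ih => rw [pow_succ, ← mulVec_mulVec, ← ha, mulVec_smul, ih, smul_smul, pow_succ']
    have h2 := h1 p
    have h3 : scalar ι c *ᵥ u = c • u := by
      ext i; simp [scalar_apply, mulVec_diagonal]
    rw [hA, h3] at h2
    exact (smul_left_injective F hu h2).symm
  exact frobenius_inj F p (by rw [frobenius_def, frobenius_def, key hu ha, key hv hb])

theorem psl_pow_eq_one_iff {g : SpecialLinearGroup ι F} {k : ℕ}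
    (h : (g : ProjectiveSpecialLinearGroup ι F) ^ k = 1) :
    ∃ c : F, (g : Matrix ι ι F) ^ k = scalar ι c := by
  rw [← QuotientGroup.mk_pow, QuotientGroup.eq_one_iff,
    Matrix.SpecialLinearGroup.mem_center_iff] at h
  obtain ⟨c, -, hc⟩ := h
  exact ⟨c, hc.symm⟩

/-- Collinearity in terms of elements of order `p`. -/
theorem collinear_iff_psl (p : ℕ) [hp : Fact p.Prime] [CharP F p] (x y z : ℙ F (ι → F)) :
    z.submodule ≤ x.submodule ⊔ y.submodule ↔
      ∀ g : ProjectiveSpecialLinearGroup ι F, g ^ p = 1 → g • x = x → g • y = y → g • z = z := by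
  induction x using Projectivization.ind with | _ u hu =>
  induction y using Projectivization.ind with | _ v hv =>
  induction z using Projectivization.ind with | _ w hw =>
  simp only [Projectivization.submodule_mk]
  rw [Submodule.span_singleton_le_iff_mem, ← Submodule.span_insert]
  constructor
  · intro h g hg hx hy
    induction g using QuotientGroup.induction_on with | _ g =>
    obtain ⟨c, hc⟩ := psl_pow_eq_one_iff hg
    rw [psl_smul_mk_eq_iff] at hx hy ⊢
    obtain ⟨a, ha⟩ := hx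
    obtain ⟨b, hb⟩ := hy
    obtain rfl := eigen_eq_of_pow p hc hu hv ha hb
    obtain ⟨s, t, rfl⟩ := Submodule.mem_span_pair.1 h
    exact ⟨a, by rw [mulVec_add, mulVec_smul, mulVec_smul, ← ha, ← hb]; module⟩
  · intro h
    by_contra hn
    obtain ⟨φ, h0, h1⟩ := exists_dot_of_notMem _ hn
    have hφu : φ ⬝ᵥ u = 0 := h0 u (Submodule.subset_span (by simp))
    have hφv : φ ⬝ᵥ v = 0 := h0 v (Submodule.subset_span (by simp))
    have := h (tv u φ hφu : SpecialLinearGroup ι F)
      (by rw [← QuotientGroup.mk_pow, tv_pow_char]; rfl)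
      ((psl_smul_mk_eq_iff _ _ _ _ _).2 ⟨1, by rw [tv_mulVec, hφu]; simp⟩)
      ((psl_smul_mk_eq_iff _ _ _ _ _).2 ⟨1, by rw [tv_mulVec, hφv]; simp⟩)
    obtain ⟨a, ha⟩ := (psl_smul_mk_eq_iff _ _ _ _ _).1 this
    rw [tv_mulVec, h1, one_smul] at ha
    have h2 := congrArg (φ ⬝ᵥ ·) ha
    simp only [dotProduct_smul, dotProduct_add, h1, hφu, smul_eq_mul, mul_one, add_zero] at h2
    rw [h2, one_smul, left_eq_add] at ha
    exact hu ha

theorem Compat.forall_pow_iff {G X : Type*} [Group G] [MulAction G X] {θ : MulAut G}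
    {σ : Equiv.Perm X} (h : Compat θ σ) (p : ℕ) (x y z : X) :
    (∀ g : G, g ^ p = 1 → g • x = x → g • y = y → g • z = z) ↔
      ∀ g : G, g ^ p = 1 → g • σ x = σ x → g • σ y = σ y → g • σ z = σ z := by
  rw [θ.surjective.forall (p := fun g : G =>
    g ^ p = 1 → g • σ x = σ x → g • σ y = σ y → g • σ z = σ z)]
  simp only [h.smul_eq_iff, ← map_pow, MulEquiv.map_eq_one_iff]

theorem exists_semiPerm_of_mem_permNorm_three [Fintype F] (h3 : 3 ≤ Fintype.card ι)
    {σ : Equiv.Perm (ℙ F (ι → F))}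
    (hσ : σ ∈ permNorm (ProjectiveSpecialLinearGroup ι F) (ℙ F (ι → F))) :
    ∃ (φ : F ≃+* F) (A : GL ι F), σ = semiPerm φ (ProjGenLinGroup.mk A) := by
  obtain ⟨p, hp, k, hpp, -⟩ := FiniteField.card' F
  have : Fact p.Prime := ⟨hpp⟩
  obtain ⟨θ, hθ⟩ := hσ
  refine exists_semiPerm_of_collinear h3 σ fun x y z => ?_
  rw [collinear_iff_psl p, collinear_iff_psl p, Compat.forall_pow_iff hθ]

/-- The affine point `(t : 1)` of the projective line. -/
def apt (t : F) : ℙ F (Fin 2 → F) := .mk F ![t, 1] (by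
  intro h; simpa using congrFun h 1)

/-- The point at infinity `(1 : 0)` of the projective line. -/
def ipt (F : Type*) [Field F] : ℙ F (Fin 2 → F) := .mk F ![1, 0] (by
  intro h; simpa using congrFun h 0)

theorem apt_injective : Function.Injective (apt : F → ℙ F (Fin 2 → F)) := by
  intro s t h
  rw [apt, apt, Projectivization.mk_eq_mk_iff'] at h
  obtain ⟨a, ha⟩ := h
  have h0 := congrFun ha 0
  have h1 := congrFun ha 1
  simp at h0 h1
  rw [← h0, h1, one_mul]

theorem apt_ne_ipt (t : F) : apt t ≠ ipt F := by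
  intro h
  rw [apt, ipt, Projectivization.mk_eq_mk_iff'] at h
  obtain ⟨a, ha⟩ := h
  simpa using congrFun ha 1

theorem eq_ipt_or_apt (x : ℙ F (Fin 2 → F)) : x = ipt F ∨ ∃ t, x = apt t := by
  induction x using Projectivization.ind with | _ v hv =>
  by_cases h : v 1 = 0
  · left
    rw [ipt, Projectivization.mk_eq_mk_iff']
    refine ⟨v 0, ?_⟩
    ext i; fin_cases i <;> simp [h]
  · right
    refine ⟨v 0 / v 1, ?_⟩
    rw [apt, Projectivization.mk_eq_mk_iff']
    refine ⟨v 1, ?_⟩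
    ext i; fin_cases i <;> simp [h, mul_div_cancel₀]

/-- An element of `PSL₂` fixing the point at infinity acts on the affine line by
`t ↦ a² t + b`. -/
theorem psl_two_smul_apt (g : SL(2, F))
    (h : (g : ProjectiveSpecialLinearGroup (Fin 2) F) • ipt F = ipt F) :
    g 1 0 = 0 ∧ g 0 0 * g 1 1 = 1 ∧ ∀ t : F, (g : ProjectiveSpecialLinearGroup (Fin 2) F) • apt t =
      apt (g 0 0 ^ 2 * t + g 0 0 * g 0 1) := by
  rw [ipt, psl_smul_mk_eq_iff] at h
  obtain ⟨a, ha⟩ := h
  have h10 : g 1 0 = 0 := by simpa [mulVec, dotProduct] using (congrFun ha 1).symm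
  have hdet : g 0 0 * g 1 1 = 1 := by
    have := g.2
    rw [det_fin_two, h10] at this
    simpa using this
  refine ⟨h10, hdet, fun t => ?_⟩
  rw [apt, apt, psl_smul_mk_eq_iff]
  refine ⟨g 1 1, ?_⟩
  ext i; fin_cases i
  · simp [mulVec, dotProduct]
    linear_combination (g 0 0 * t + g 0 1) * hdet
  · simp [mulVec, dotProduct, h10]

theorem exists_sq_sub_sq [Finite F] (a : F) : ∃ x y : F, a = x ^ 2 - y ^ 2 := by
  by_cases h2 : ringChar F = 2
  · obtain ⟨x, hx⟩ := FiniteField.isSquare_of_char_two h2 a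
    exact ⟨x, 0, by rw [hx]; ring⟩
  · have h : (2 : F) ≠ 0 := Ring.two_ne_zero h2
    exact ⟨(a + 1) / 2, (a - 1) / 2, by field_simp; ring⟩

theorem exists_fieldPerm_two [Fintype F] {σ : Equiv.Perm (ℙ F (Fin 2 → F))}
    (hσ : σ ∈ permNorm (ProjectiveSpecialLinearGroup (Fin 2) F) (ℙ F (Fin 2 → F)))
    (h1 : σ (ipt F) = ipt F) (h2 : σ (apt 0) = apt 0) (h3 : σ (apt 1) = apt 1) :
    ∃ φ : F ≃+* F, σ = fieldPerm (Fin 2) φ := by
  obtain ⟨p, hp, k, hpp, -⟩ := FiniteField.card' F
  have : Fact p.Prime := ⟨hpp⟩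
  obtain ⟨θ, hθ⟩ := hσ
  have hτ : ∀ t : F, ∃ s, σ (apt t) = apt s := fun t =>
    (eq_ipt_or_apt _).resolve_left fun h => apt_ne_ipt t (σ.injective (h.trans h1.symm))
  choose τ hτ using hτ
  have τ0 : τ 0 = 0 := apt_injective ((hτ 0).symm.trans h2)
  have τ1 : τ 1 = 1 := apt_injective ((hτ 1).symm.trans h3)
  have hadd : ∀ a t, τ (t + a) = τ t + τ a := by
    intro a
    let u : SL(2, F) := tv ![1, 0] ![0, a] (by simp)
    have hu1 : (u : ProjectiveSpecialLinearGroup (Fin 2) F) • ipt F = ipt F := by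
      rw [ipt, psl_smul_mk_eq_iff]
      exact ⟨1, by rw [tv_mulVec]; simp⟩
    have hu2 : ∀ t, (u : ProjectiveSpecialLinearGroup (Fin 2) F) • apt t = apt (t + a) := by
      intro t
      rw [apt, apt, psl_smul_mk_eq_iff]
      refine ⟨1, ?_⟩
      rw [tv_mulVec]
      ext i; fin_cases i <;> simp
    have hu3 : (u : ProjectiveSpecialLinearGroup (Fin 2) F) ^ p = 1 := by
      rw [← QuotientGroup.mk_pow, tv_pow_char]; rfl
    obtain ⟨g, hg⟩ := QuotientGroup.mk_surjective (θ u)
    have hg1 : (g : ProjectiveSpecialLinearGroup (Fin 2) F) • ipt F = ipt F := by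
      rw [hg, ← h1, hθ.smul_eq_iff, hu1]
    obtain ⟨e1, e2, e3⟩ := psl_two_smul_apt g hg1
    obtain ⟨c, hc⟩ := psl_pow_eq_one_iff (g := g) (k := p) (by rw [hg, ← map_pow, hu3, map_one])
    have e4 : g 0 0 = g 1 1 := by
      have hc' : (g : Matrix (Fin 2) (Fin 2) F)ᵀ ^ p = scalar (Fin 2) c := by
        rw [← transpose_pow, hc]; simp
      have key : ∀ {A : Matrix (Fin 2) (Fin 2) F} {u : Fin 2 → F} {a : F},
          A ^ p = scalar (Fin 2) c → u ≠ 0 → a • u = A *ᵥ u → a ^ p = c := by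
        intro A u a hA hu ha
        have h1 : ∀ k : ℕ, A ^ k *ᵥ u = a ^ k • u := by
          intro k
          induction k with
          | zero => simp
          | succ k ih => rw [pow_succ, ← mulVec_mulVec, ← ha, mulVec_smul, ih, smul_smul, pow_succ']
        have h2 := h1 p
        have h3 : scalar (Fin 2) c *ᵥ u = c • u := by
          ext i; simp [scalar_apply, mulVec_diagonal]
        rw [hA, h3] at h2
        exact (smul_left_injective F hu h2).symm
      have k1 : g 0 0 ^ p = c := key (u := ![1, 0]) hc (by intro h; simpa using congrFun h 0) (by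
        ext i; fin_cases i <;> simp [mulVec, dotProduct, e1])
      have k2 : g 1 1 ^ p = c := key (u := ![0, 1]) hc' (by intro h; simpa using congrFun h 1) (by
        ext i; fin_cases i <;> simp [mulVec, dotProduct, e1])
      exact frobenius_inj F p (by rw [frobenius_def, frobenius_def, k1, k2])
    have e5 : g 0 0 ^ 2 = 1 := by linear_combination e2 + g 0 0 * e4
    have e6 : ∀ t, τ (t + a) = τ t + g 0 0 * g 0 1 := by
      intro t
      apply apt_injective
      rw [← hτ, ← hu2, hθ, ← hg, hτ, e3, e5, one_mul]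
    intro t
    have := e6 0
    rw [zero_add, τ0, zero_add] at this
    rw [e6, this]
  have hsq : ∀ c t, τ (c ^ 2 * t) = τ (c ^ 2) * τ t := by
    intro c
    by_cases hc : c = 0
    · intro t; simp [hc, τ0]
    let d : SL(2, F) := SpecialLinearGroup.diag2 c hc
    have hd1 : (d : ProjectiveSpecialLinearGroup (Fin 2) F) • ipt F = ipt F := by
      rw [ipt, psl_smul_mk_eq_iff]
      refine ⟨c, ?_⟩
      rw [SpecialLinearGroup.diag2_coe']
      ext i; fin_cases i <;> simp [mulVec, dotProduct]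
    have hd2 : ∀ t, (d : ProjectiveSpecialLinearGroup (Fin 2) F) • apt t = apt (c ^ 2 * t) := by
      intro t
      rw [apt, apt, psl_smul_mk_eq_iff]
      refine ⟨c⁻¹, ?_⟩
      rw [SpecialLinearGroup.diag2_coe']
      ext i; fin_cases i <;> simp [mulVec, dotProduct]
      field_simp
    obtain ⟨g, hg⟩ := QuotientGroup.mk_surjective (θ d)
    have hg1 : (g : ProjectiveSpecialLinearGroup (Fin 2) F) • ipt F = ipt F := by
      rw [hg, ← h1, hθ.smul_eq_iff, hd1]
    obtain ⟨e1, e2, e3⟩ := psl_two_smul_apt g hg1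
    have e6 : ∀ t, τ (c ^ 2 * t) = g 0 0 ^ 2 * τ t + g 0 0 * g 0 1 := by
      intro t
      apply apt_injective
      rw [← hτ, ← hd2, hθ, ← hg, hτ, e3]
    have e7 := e6 0
    rw [mul_zero, τ0, mul_zero, zero_add] at e7
    have e8 := e6 1
    rw [mul_one, τ1, mul_one, ← e7, add_zero] at e8
    intro t
    rw [e6, ← e7, add_zero, e8]
  let τ' : F →+ F := AddMonoidHom.mk' τ fun a b => hadd b a
  have hmul : ∀ a b, τ (a * b) = τ a * τ b := by
    intro a b
    obtain ⟨x, y, rfl⟩ := exists_sq_sub_sq a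
    change τ' _ = τ' _ * τ b
    rw [sub_mul, map_sub, map_sub, sub_mul]
    exact congrArg₂ (· - ·) (hsq x b) (hsq y b)
  let φ₀ : F →+* F := { τ' with map_one' := τ1, map_mul' := hmul }
  let φ : F ≃+* F := RingEquiv.ofBijective φ₀
    ⟨φ₀.injective, Finite.surjective_of_injective φ₀.injective⟩
  refine ⟨φ, Equiv.ext fun x => ?_⟩
  rcases eq_ipt_or_apt x with rfl | ⟨t, rfl⟩
  · rw [h1, ipt, fieldPerm_mk]
    congr 1
    ext i; fin_cases i <;> simp [fieldMap_apply]
  · rw [hτ, apt, apt, fieldPerm_mk]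
    congr 1
    ext i; fin_cases i
    · rfl
    · simp [fieldMap_apply]

theorem semiPerm_refl (g : PGL(ι, F)) : semiPerm (RingEquiv.refl F) g = toPerm g := by
  ext x
  induction x using Projectivization.ind with | _ v hv => rfl

theorem exists_semiPerm_of_mem_permNorm_two [Fintype F] {σ : Equiv.Perm (ℙ F (Fin 2 → F))}
    (hσ : σ ∈ permNorm (ProjectiveSpecialLinearGroup (Fin 2) F) (ℙ F (Fin 2 → F))) :
    ∃ (φ : F ≃+* F) (A : GL (Fin 2) F), σ = semiPerm φ (ProjGenLinGroup.mk A) := by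
  obtain ⟨a, ha, hσa⟩ : ∃ a ha, σ (ipt F) = .mk F a ha := ⟨_, _, (Projectivization.mk_rep _).symm⟩
  obtain ⟨b, hb, hσb⟩ : ∃ a ha, σ (apt 0) = .mk F a ha := ⟨_, _, (Projectivization.mk_rep _).symm⟩
  obtain ⟨c, hc, hσc⟩ : ∃ a ha, σ (apt 1) = .mk F a ha := ⟨_, _, (Projectivization.mk_rep _).symm⟩
  have det_ne : ∀ {u v : Fin 2 → F} (hu : u ≠ 0) (hv : v ≠ 0),
      Projectivization.mk F u hu ≠ .mk F v hv → u 0 * v 1 - v 0 * u 1 ≠ 0 := by
    intro u v hu hv huv h0
    apply huv
    rw [Projectivization.mk_eq_mk_iff']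
    by_cases h : v 0 = 0
    · have h' : v 1 ≠ 0 := fun h' => hv (by ext i; fin_cases i <;> simp [h, h'])
      refine ⟨u 1 / v 1, ?_⟩
      ext i; fin_cases i
      · simp [h] at h0 ⊢
        exact (h0.resolve_right h').symm
      · simp [h']
    · refine ⟨u 0 / v 0, ?_⟩
      ext i; fin_cases i
      · simp [h]
      · simp
        field_simp
        linear_combination h0
  have hab := det_ne ha hb (by
    rw [← hσa, ← hσb]; exact fun h => apt_ne_ipt 0 (σ.injective h).symm)
  have hac := det_ne ha hc (by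
    rw [← hσa, ← hσc]; exact fun h => apt_ne_ipt 1 (σ.injective h).symm)
  have hcb := det_ne hc hb (by
    rw [← hσc, ← hσb]; exact fun h => one_ne_zero (apt_injective (σ.injective h)))
  set α := c 0 * b 1 - b 0 * c 1
  set β := a 0 * c 1 - c 0 * a 1
  let B : GL (Fin 2) F := GeneralLinearGroup.mkOfDetNeZero !![α * a 0, β * b 0; α * a 1, β * b 1]
    (by
      rw [det_fin_two_of]
      have : α * a 0 * (β * b 1) - β * b 0 * (α * a 1) = α * β * (a 0 * b 1 - b 0 * a 1) := by ring
      rw [this]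
      exact mul_ne_zero (mul_ne_zero hcb hac) hab)
  have hB : (B : Matrix (Fin 2) (Fin 2) F) = !![α * a 0, β * b 0; α * a 1, β * b 1] := rfl
  have k1 : B • ipt F = σ (ipt F) := by
    rw [hσa, ipt, gl_smul_mk, Projectivization.mk_eq_mk_iff']
    refine ⟨α, ?_⟩
    rw [hB]; ext i; fin_cases i <;> simp [mulVec, dotProduct]
  have k2 : B • apt (0 : F) = σ (apt 0) := by
    rw [hσb, apt, gl_smul_mk, Projectivization.mk_eq_mk_iff']
    refine ⟨β, ?_⟩
    rw [hB]; ext i; fin_cases i <;> simp [mulVec, dotProduct]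
  have k3 : B • apt (1 : F) = σ (apt 1) := by
    rw [hσc, apt, gl_smul_mk, Projectivization.mk_eq_mk_iff']
    refine ⟨a 0 * b 1 - b 0 * a 1, ?_⟩
    rw [hB]; ext i; fin_cases i <;> simp [mulVec, dotProduct, α, β] <;> ring
  have hBN := semiPerm_mem_permNorm (RingEquiv.refl F) (ProjGenLinGroup.mk B)
  rw [semiPerm_refl] at hBN
  obtain ⟨φ, hφ⟩ := exists_fieldPerm_two (Subgroup.mul_mem _ (Subgroup.inv_mem _ hBN) hσ)
    (by rw [Equiv.Perm.mul_apply, Equiv.Perm.inv_eq_iff_eq, ← k1]; rfl)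
    (by rw [Equiv.Perm.mul_apply, Equiv.Perm.inv_eq_iff_eq, ← k2]; rfl)
    (by rw [Equiv.Perm.mul_apply, Equiv.Perm.inv_eq_iff_eq, ← k3]; rfl)
  refine ⟨φ, B, ?_⟩
  rw [semiPerm, ← hφ, mul_inv_cancel_left]

theorem exists_third_point [Nontrivial ι] (x y : ℙ F (ι → F)) : ∃ z, z ≠ x ∧ z ≠ y := by
  by_cases hxy : x = y
  · subst hxy
    obtain ⟨z, hz⟩ := exists_ne x
    exact ⟨z, hz, hz⟩
  induction x using Projectivization.ind with | _ u hu =>
  induction y using Projectivization.ind with | _ v hv =>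
  have h : Ind2 F v u := ind2_iff.2 ⟨hv, fun h => hxy (by
    rw [Projectivization.mk_eq_mk_iff']
    exact Submodule.mem_span_singleton.1 h)⟩
  have h0 : u + v ≠ 0 := fun h0 => one_ne_zero (h 1 1 (by rw [← h0]; module)).1
  refine ⟨.mk F _ h0, fun h1 => ?_, fun h1 => ?_⟩
  · rw [Projectivization.mk_eq_mk_iff'] at h1
    obtain ⟨a, ha⟩ := h1
    exact one_ne_zero (h 1 (1 - a) (by rw [sub_smul, ha]; module)).1
  · rw [Projectivization.mk_eq_mk_iff'] at h1
    obtain ⟨a, ha⟩ := h1
    exact one_ne_zero (h (1 - a) 1 (by rw [sub_smul, ha]; module)).2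

/-- The order of the automorphism group of `PSL_n(F)`, `F` finite, `n ≥ 2`. -/
theorem card_mulAut_psl [Fintype F] (n : ℕ) (hn : 2 ≤ n) :
    Nat.card (MulAut (ProjectiveSpecialLinearGroup (Fin n) F)) =
      (if n = 2 then 1 else 2) * Nat.card (F ≃+* F) * Nat.card PGL(Fin n, F) := by
  have : Nontrivial (Fin n) := Fin.nontrivial_iff_two_le.2 hn
  have h1 := (permAut (ProjectiveSpecialLinearGroup (Fin n) F) (ℙ F (Fin n → F))).index_mul_card
  rw [index_permAut, Fintype.card_fin, card_permAut_eq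
    (fix_of_two_pretransitive psl_two_pretransitive exists_third_point)] at h1
  have h2 := card_of_semiPerm (ι := Fin n) (F := F)
    (permNorm (ProjectiveSpecialLinearGroup (Fin n) F) (ℙ F (Fin n → F)) :
      Set (Equiv.Perm (ℙ F (Fin n → F)))) Set.univ
    fun σ => ⟨fun hσ => by
      rcases hn.eq_or_lt with rfl | h3
      · obtain ⟨φ, A, h⟩ := exists_semiPerm_of_mem_permNorm_two hσ
        exact ⟨φ, _, trivial, h⟩
      · obtain ⟨φ, A, h⟩ := exists_semiPerm_of_mem_permNorm_three (by rw [Fintype.card_fin]; omega) hσ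
        exact ⟨φ, _, trivial, h⟩, by
      rintro ⟨φ, g, -, rfl⟩
      exact semiPerm_mem_permNorm φ g⟩
  rw [Nat.card_univ] at h2
  rw [← h1, mul_assoc, ← h2]
  rfl

end CL.GLn
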